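import Groth.Agent.Lib.Purity.Basic
import Groth.Agent.Lib.TraceEtale.Basic
import Groth.Agent.Lib.AdicExtra.Completion
import Groth.Agent.Lib.RegLoc.Basic

/-!
# Purity in dimension two
-/

set_option linter.style.haveILetI false
set_option linter.unusedSectionVars false

universe u

open IsLocalRing TensorProduct

namespace GrothLib.Purity

variable {R : Type u} [CommRing R] [IsDomain R] {d : ℕ} {y : Fin d → R}
  {A : Type u} [CommRing A] [Algebra R A]

/-- A finite free algebra which is étale off a closed set of codimension `≥ 2` is étale. -/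
theorem etale_of_free [IsLocalRing R] [IsNoetherianRing R] [Module.Free R A] [Module.Finite R A]
    (hspan : maximalIdeal R ≤ (Ideal.span (Set.range y)).radical) (hdim : 2 ≤ ringKrullDim R)
    (het : ∀ i, Algebra.Etale R (Localization.Away (algebraMap R A (y i)))) : Algebra.Etale R A := by
  classical
  let b := Module.Free.chooseBasis R A
  have hu : IsUnit (Algebra.traceMatrix R b).det := by
    by_contra hu
    set δ := (Algebra.traceMatrix R b).det
    have hδm : δ ∈ maximalIdeal R := hu
    obtain ⟨P, hP, hδP, hPm⟩ : ∃ P : Ideal R, P.IsPrime ∧ δ ∈ P ∧ P ≠ maximalIdeal R := by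
      by_contra! h
      have hne : Ideal.span {δ} ≠ ⊤ := fun e => hu (Ideal.span_singleton_eq_top.mp e)
      have h1 := Ideal.height_le_spanFinrank (Ideal.span {δ}) hne
      have h2 : (maximalIdeal R).height ≤ (Ideal.span {δ}).height := by
        rw [(Ideal.span {δ}).height_eq_inf_minimalPrimes]
        refine le_iInf₂ fun q hq => ?_
        rw [h q hq.1.1 (hq.1.2 (Ideal.mem_span_singleton_self δ))]
      have h3 : (Ideal.span {δ}).spanFinrank ≤ 1 :=
        (Submodule.spanFinrank_span_le_ncard_of_finite (Set.finite_singleton δ)).trans (by simp)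
      rw [← IsLocalRing.maximalIdeal_height_eq_ringKrullDim] at hdim
      have h4 : (2 : ℕ∞) ≤ 1 :=
        (WithBot.coe_le_coe.mp hdim).trans (h2.trans (h1.trans (by exact_mod_cast h3)))
      exact absurd h4 (by norm_num)
    haveI := hP
    obtain ⟨i, hi⟩ : ∃ i, y i ∉ P := by
      by_contra! h
      refine hPm ((maximalIdeal.isMaximal R).eq_of_le hP.ne_top ?_).symm
      exact hspan.trans ((Ideal.IsPrime.radical_le_iff hP).mpr (Ideal.span_le.mpr (Set.range_subset_iff.mpr h)))
    haveI := het i
    let Ry := Localization.Away (y i)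
    let yA := algebraMap R A (y i)
    let T := Ry ⊗[R] A
    letI : Algebra A T := Algebra.TensorProduct.rightAlgebra
    haveI : IsLocalization.Away yA T := IsLocalization.Away.tensorRight (y i) Ry
    let e : Localization.Away yA ≃ₐ[A] T := IsLocalization.algEquiv (Submonoid.powers yA) _ _
    haveI : Algebra.FormallyUnramified R (Localization.Away yA) := inferInstance
    haveI : Algebra.FormallyUnramified R T := Algebra.FormallyUnramified.of_equiv (e.restrictScalars R)
    haveI : Algebra.FormallyUnramified Ry T := Algebra.FormallyUnramified.of_restrictScalars R Ry T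
    have h1 := (GrothLib.TraceEtale.formallyUnramified_iff_isUnit_det
      (Algebra.TensorProduct.basis Ry b)).mp inferInstance
    rw [GrothLib.TraceEtale.traceMatrix_baseChange, ← RingHom.mapMatrix_apply, ← RingHom.map_det] at h1
    obtain ⟨N, c, hc⟩ := IsLocalization.Away.surj (y i) (↑h1.unit⁻¹ : Ry)
    have h2 : algebraMap R Ry (δ * c) = algebraMap R Ry (y i ^ N) := by
      rw [map_mul, ← hc, map_pow, ← mul_assoc, IsUnit.mul_val_inv, one_mul]
    have hy0 : y i ≠ 0 := fun h => hi (h ▸ P.zero_mem)
    have h3 := IsLocalization.injective Ry (powers_le_nonZeroDivisors_of_noZeroDivisors hy0) h2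
    exact hi (hP.mem_of_pow_mem N (h3 ▸ P.mul_mem_right _ hδP))
  haveI := (GrothLib.TraceEtale.formallyUnramified_iff_isUnit_det b).mpr hu
  haveI : Algebra.FinitePresentation R A := Algebra.FinitePresentation.of_finiteType.mp inferInstance
  exact Algebra.Etale.of_formallyUnramified_of_flat

/-- A saturated algebra over a two dimensional regular local ring is free. -/
theorem free_of_punct [IsLocalRing R] [IsNoetherianRing R] {x : R} (hx : Prime x)
    (hxm : x ∈ maximalIdeal R) [IsDomain (R ⧸ Ideal.span {x})]
    [IsPrincipalIdealRing (R ⧸ Ideal.span {x})] (h : Punct R y A) : Module.Free R A := by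
  classical
  haveI := h.finite
  let R₀ := R ⧸ Ideal.span {x}
  let mk : R →+* R₀ := Ideal.Quotient.mk (Ideal.span {x})
  let J := (Ideal.span {x}).map (algebraMap R A)
  let A₀ := A ⧸ J
  have hJ : ∀ t : A, t ∈ J ↔ ∃ u, t = x • u := fun t => by
    rw [show J = Ideal.span {algebraMap R A x} by simp [J, Ideal.map_span], Ideal.mem_span_singleton]
    exact exists_congr fun u => by rw [Algebra.smul_def]
  haveI : Module.Finite R A₀ := inferInstance
  haveI : Module.Finite R₀ A₀ := Module.Finite.of_restrictScalars_finite R R₀ A₀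
  haveI : Module.IsTorsionFree R₀ A₀ := by
    refine Module.IsTorsionFree.mk fun r hr => ?_
    refine isSMulRegular_iff_right_eq_zero_of_smul.mpr fun z hz => ?_
    obtain ⟨s, rfl⟩ := Ideal.Quotient.mk_surjective r
    obtain ⟨t, rfl⟩ := Ideal.Quotient.mk_surjective z
    have hs : ¬ x ∣ s := fun hd => hr.ne_zero (Ideal.Quotient.eq_zero_iff_mem.mpr
      (Ideal.mem_span_singleton.mpr hd))
    have hmem : s • t ∈ J := by
      rw [← Ideal.Quotient.eq_zero_iff_mem]
      exact hz
    obtain ⟨w, hw⟩ := (hJ _).mp hmem
    obtain ⟨u, hu⟩ := h.dvd_of_mul hx hs 1 (w := w) (by rw [pow_one]; exact hw)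
    rw [Ideal.Quotient.eq_zero_iff_mem, hJ]
    exact ⟨u, by rwa [pow_one] at hu⟩
  haveI : Module.Free R₀ A₀ := inferInstance
  let b := Module.Free.chooseBasis R₀ A₀
  choose t ht using fun l => Ideal.Quotient.mk_surjective (I := J) (b l)
  let π : (Module.Free.ChooseBasisIndex R₀ A₀ → R) →ₗ[R] A := Fintype.linearCombination R t
  have hred : ∀ c, Ideal.Quotient.mk J (π c) = ∑ l, mk (c l) • b l := fun c => by
    simp only [π, Fintype.linearCombination_apply, map_sum]
    refine Finset.sum_congr rfl fun l _ => ?_
    rw [← ht l]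
    rfl
  have hjac : Ideal.span {x} ≤ (⊥ : Ideal R).jacobson :=
    ((Ideal.span_singleton_le_iff_mem _).mpr hxm).trans (maximalIdeal_le_jacobson _)
  have hsurj : Function.Surjective π := by
    have hle : (⊤ : Submodule R A) ≤ LinearMap.range π ⊔ Ideal.span {x} • ⊤ := by
      intro z _
      choose c hc using fun l => Ideal.Quotient.mk_surjective (I := Ideal.span {x}) (b.repr (Ideal.Quotient.mk J z) l)
      have h1 : Ideal.Quotient.mk J (z - π c) = 0 := by
        rw [map_sub, hred]
        simp only [mk, hc, b.sum_repr, sub_self]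
      obtain ⟨u, hu⟩ := (hJ _).mp (Ideal.Quotient.eq_zero_iff_mem.mp h1)
      rw [← add_sub_cancel (π c) z, hu]
      exact Submodule.add_mem_sup ⟨c, rfl⟩ (Submodule.smul_mem_smul (Ideal.mem_span_singleton_self x) trivial)
    have := Submodule.le_of_le_smul_of_le_jacobson_bot (Module.finite_def.mp h.finite) hjac hle
    intro z
    exact this (trivial : z ∈ ⊤)
  have hinj : Function.Injective π := by
    have hle : LinearMap.ker π ≤ Ideal.span {x} • LinearMap.ker π := by
      intro c hc
      have hc' : π c = 0 := hc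
      have h1 : ∀ l, x ∣ c l := fun l => by
        rw [← Ideal.mem_span_singleton, ← Ideal.Quotient.eq_zero_iff_mem]
        have := hred c
        rw [hc', map_zero] at this
        exact Fintype.linearIndependent_iff.mp b.linearIndependent _ this.symm l
      choose e he using h1
      have h2 : c = x • e := funext he
      rw [h2]
      refine Submodule.smul_mem_smul (Ideal.mem_span_singleton_self x) ?_
      rw [h2, map_smul] at hc'
      exact h.torsion hx.ne_zero hc'
    exact LinearMap.ker_eq_bot.mp (Submodule.eq_bot_of_le_smul_of_le_jacobson_bot (Ideal.span {x}) _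
      (IsNoetherian.noetherian _) hle hjac)
  exact Module.Free.of_equiv (LinearEquiv.ofBijective π ⟨hinj, hsurj⟩)

theorem etale_of_punct_dim_two [IsRegularLocalRing R] (hdim : ringKrullDim R = 2)
    (hspan : maximalIdeal R ≤ (Ideal.span (Set.range y)).radical) (h : Punct R y A) :
    Algebra.Etale R A := by
  obtain ⟨x, hxm, hx2⟩ : ∃ x ∈ maximalIdeal R, x ∉ maximalIdeal R ^ 2 := by
    by_contra! h0
    have hbot := Submodule.eq_bot_of_le_smul_of_le_jacobson_bot (maximalIdeal R) (maximalIdeal R)
      (IsNoetherian.noetherian _) (fun z hz => by rw [smul_eq_mul, ← sq]; exact h0 z hz)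
      (maximalIdeal_le_jacobson _)
    have h1 := IsLocalRing.maximalIdeal_height_eq_ringKrullDim (R := R)
    rw [hbot, Ideal.height_bot, hdim] at h1
    have : (0 : ℕ∞) = 2 := WithBot.coe_inj.mp h1
    simp at this
  obtain ⟨hreg, hd0, -⟩ := GrothLib.RegLoc.quotient_isRegularLocalRing hxm hx2
  haveI := hreg
  haveI := GrothLib.CMFree.isDomain_of_isRegularLocalRing (R ⧸ Ideal.span {x})
  have hx0 : x ≠ 0 := fun e => hx2 (e ▸ Submodule.zero_mem _)
  have hx : Prime x :=
    (Ideal.span_singleton_prime hx0).mp ((Ideal.Quotient.isDomain_iff_prime _).mp inferInstance)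
  have hdim0 : ringKrullDim (R ⧸ Ideal.span {x}) = 1 := by
    obtain ⟨m, hm, -⟩ := GrothLib.RegLoc.exists_dim_eq (R := R ⧸ Ideal.span {x})
    rw [hm, hdim] at hd0
    have : m + 1 = 2 := by exact_mod_cast hd0
    rw [hm, show m = 1 by omega]
    rfl
  obtain ⟨_, hdvr⟩ := GrothLib.AdicExtra.exists_dvr_iff_regular_dim_one.mpr ⟨hreg, hdim0⟩
  haveI := hdvr
  haveI := free_of_punct hx hxm h
  haveI := h.finite
  exact etale_of_free hspan (by rw [hdim]) h.etale

end GrothLib.Purity
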