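import Groth.Agent.Lib.Purity.Step
import Groth.Agent.Lib.Purity.Base
import Groth.Agent.Lib.AdicExtra.FiniteAlg
import Groth.Agent.Lib.AdicExtra.Complete
import Groth.Agent.Lib.Hensel.FiniteEtaleLift

/-!
# Purity for saturated algebras over regular local rings
-/

set_option linter.style.haveILetI false
set_option linter.unusedSectionVars false

universe u

open IsLocalRing TensorProduct

namespace GrothLib.Purity

theorem exists_mem_not_mem_sq (R : Type u) [CommRing R] [IsLocalRing R] [IsNoetherianRing R]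
    (hdim : 1 ≤ ringKrullDim R) : ∃ x ∈ maximalIdeal R, x ∉ maximalIdeal R ^ 2 := by
  by_contra! h0
  have hbot := Submodule.eq_bot_of_le_smul_of_le_jacobson_bot (maximalIdeal R) (maximalIdeal R)
    (IsNoetherian.noetherian _) (fun z hz => by rw [smul_eq_mul, ← sq]; exact h0 z hz)
    (maximalIdeal_le_jacobson _)
  have h1 : maximalIdeal R ∈ minimalPrimes R := by
    refine ⟨⟨inferInstance, bot_le⟩, fun q _ _ => ?_⟩
    rw [hbot]
    exact bot_le
  rw [← IsLocalRing.maximalIdeal_height_eq_ringKrullDim,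
    Ideal.height_eq_zero_iff.mpr h1] at hdim
  exact absurd (WithBot.coe_le_coe.mp hdim) (by simp)

/-- The data in dimension at least three. -/
theorem good_of_regular {R : Type u} [CommRing R] [IsDomain R] [IsRegularLocalRing R] {d : ℕ}
    {y : Fin d → R} (hdim : 3 ≤ ringKrullDim R)
    (hy : maximalIdeal R ≤ (Ideal.span (Set.range y)).radical) {x : R} (hxm : x ∈ maximalIdeal R)
    (hx2 : x ∉ maximalIdeal R ^ 2) : Good y x := by
  classical
  obtain ⟨hreg, hd0, -⟩ := GrothLib.RegLoc.quotient_isRegularLocalRing hxm hx2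
  haveI := hreg
  let R₀ := R ⧸ Ideal.span {x}
  let mk : R →+* R₀ := Ideal.Quotient.mk (Ideal.span {x})
  haveI := GrothLib.CMFree.isDomain_of_isRegularLocalRing R₀
  have hx0 : x ≠ 0 := fun e => hx2 (e ▸ Submodule.zero_mem _)
  have hx : Prime x :=
    (Ideal.span_singleton_prime hx0).mp ((Ideal.Quotient.isDomain_iff_prime _).mp inferInstance)
  rw [← IsLocalRing.maximalIdeal_height_eq_ringKrullDim] at hdim
  have hdim' : (3 : ℕ∞) ≤ (maximalIdeal R).height := WithBot.coe_le_coe.mp hdim
  have hsmall : ∀ T : Finset R, T.card ≤ 2 → maximalIdeal R ≠ Ideal.span (T : Set R) := by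
    intro T hT e
    have h1 := Ideal.height_le_spanFinrank (maximalIdeal R) (maximalIdeal.isMaximal R).ne_top
    have h2 : (maximalIdeal R).spanFinrank ≤ 2 := by
      rw [e]
      exact (Submodule.spanFinrank_span_le_ncard_of_finite T.finite_toSet).trans
        (by rwa [Set.ncard_coe_finset])
    have h3 : (3 : ℕ∞) ≤ 2 := hdim'.trans (h1.trans (by exact_mod_cast h2))
    exact absurd h3 (by norm_num)
  refine ⟨hx, ?_, ?_⟩
  · have hd1 : 1 ≤ ringKrullDim R₀ := by
      obtain ⟨m, hm, -⟩ := GrothLib.RegLoc.exists_dim_eq (R := R₀)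
      obtain ⟨M, hM, -⟩ := GrothLib.RegLoc.exists_dim_eq (R := R)
      rw [hm, hM] at hd0
      have h3 : 3 ≤ M := by
        rw [IsLocalRing.maximalIdeal_height_eq_ringKrullDim, hM] at hdim
        exact_mod_cast hdim
      have : m + 1 = M := by exact_mod_cast hd0
      rw [hm]
      exact_mod_cast (by omega : 1 ≤ m)
    obtain ⟨p₀, hp₀m, hp₀2⟩ := exists_mem_not_mem_sq R₀ hd1
    obtain ⟨p, rfl⟩ := Ideal.Quotient.mk_surjective p₀
    obtain ⟨hreg2, -, -⟩ := GrothLib.RegLoc.quotient_isRegularLocalRing hp₀m hp₀2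
    haveI := hreg2
    haveI := GrothLib.CMFree.isDomain_of_isRegularLocalRing (R₀ ⧸ Ideal.span {mk p})
    have hP : (Ideal.span {mk p}).IsPrime := (Ideal.Quotient.isDomain_iff_prime _).mp inferInstance
    have hcomap : Ideal.span {x, p} = (Ideal.span {mk p}).comap mk := by
      ext z
      rw [Ideal.mem_comap, Ideal.mem_span_singleton', Ideal.mem_span_pair]
      constructor
      · rintro ⟨a, b, rfl⟩
        refine ⟨mk b, ?_⟩
        rw [← map_mul]
        exact Ideal.Quotient.eq.mpr (Ideal.mem_span_singleton'.mpr ⟨-a, by ring⟩)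
      · rintro ⟨c, hc⟩
        obtain ⟨c, rfl⟩ := Ideal.Quotient.mk_surjective c
        rw [← map_mul] at hc
        obtain ⟨a, ha⟩ := Ideal.mem_span_singleton'.mp (Ideal.Quotient.eq.mp hc.symm)
        exact ⟨a, c, by linear_combination ha⟩
    have hpm : p ∈ maximalIdeal R := by
      by_contra h
      exact hp₀m ((IsLocalRing.notMem_maximalIdeal.mp h).map mk)
    have hne : maximalIdeal R ≠ Ideal.span {x, p} := by
      have h1 := hsmall {x, p} ((Finset.card_insert_le _ _).trans (by simp))
      simpa using h1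
    obtain ⟨q, hqm, hq⟩ : ∃ q ∈ maximalIdeal R, q ∉ Ideal.span {x, p} := by
      by_contra! h
      refine hne (le_antisymm h ?_)
      rw [Ideal.span_le]
      exact Set.insert_subset_iff.mpr ⟨hxm, Set.singleton_subset_iff.mpr hpm⟩
    refine ⟨p, q, hcomap ▸ hP.comap mk, fun hd => hp₀2 ?_, hq, hy hpm, hy hqm⟩
    rw [Ideal.Quotient.eq_zero_iff_mem.mpr (Ideal.mem_span_singleton.mpr hd)]
    exact Submodule.zero_mem _
  · by_contra! h
    have h1 : maximalIdeal R ≤ Ideal.span {x} := by
      refine hy.trans ((Ideal.IsPrime.radical_le_iff ((Ideal.span_singleton_prime hx0).mpr hx)).mpr ?_)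
      rw [Ideal.span_le]
      rintro _ ⟨j, rfl⟩
      exact Ideal.mem_span_singleton.mpr (h j)
    refine hsmall {x} (by simp) (le_antisymm (by simpa using h1) ?_)
    simpa [Ideal.span_le] using hxm

theorem etale_of_punct_complete : ∀ (n : ℕ) (R : Type u) [CommRing R] [IsDomain R]
    [IsRegularLocalRing R] [IsAdicComplete (maximalIdeal R) R], ringKrullDim R = ((n + 2 : ℕ) : WithBot ℕ∞) →
    ∀ (d : ℕ) (y : Fin d → R), maximalIdeal R ≤ (Ideal.span (Set.range y)).radical →
    ∀ (A : Type u) [CommRing A] [Algebra R A], Punct R y A → Algebra.Etale R A := by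
  intro n
  induction n with
  | zero =>
    intro R _ _ _ _ hdim d y hy A _ _ h
    exact etale_of_punct_dim_two (by simpa using hdim) hy h
  | succ n ih =>
    intro R _ _ _ _ hdim d y hy A _ _ h
    obtain ⟨x, hxm, hx2⟩ := exists_mem_not_mem_sq R (by rw [hdim]; exact_mod_cast (by omega : 1 ≤ n + 1 + 2))
    have hgd := good_of_regular (by rw [hdim]; exact_mod_cast (by omega : 3 ≤ n + 1 + 2)) hy hxm hx2
    have hx := hgd.prime
    obtain ⟨hreg, hd0, -⟩ := GrothLib.RegLoc.quotient_isRegularLocalRing hxm hx2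
    haveI := hreg
    let R₀ := R ⧸ Ideal.span {x}
    haveI := GrothLib.CMFree.isDomain_of_isRegularLocalRing R₀
    haveI : IsAdicComplete (maximalIdeal R₀) R₀ := GrothLib.AdicExtra.isAdicComplete_localRing (R := R)
    have hdim0 : ringKrullDim R₀ = ((n + 2 : ℕ) : WithBot ℕ∞) := by
      obtain ⟨m, hm, -⟩ := GrothLib.RegLoc.exists_dim_eq (R := R₀)
      rw [hm, hdim] at hd0
      have : m + 1 = n + 1 + 2 := by exact_mod_cast hd0
      rw [hm, show m = n + 2 by omega]
    let L := Localization (Algebra.algebraMapSubmonoid A (nonDvd hx))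
    let C := sec x y A L 1
    have hxC : algebraMap R C x = 0 := Subtype.ext algebraMap_x_eq_zero
    let φ₀ : R₀ →+* C := Ideal.Quotient.lift (Ideal.span {x}) (algebraMap R C) fun a ha => by
      obtain ⟨c, rfl⟩ := Ideal.mem_span_singleton.mp ha
      rw [map_mul, hxC, zero_mul]
    letI : Algebra R₀ C := φ₀.toAlgebra
    haveI : IsScalarTower R R₀ C := IsScalarTower.of_algebraMap_eq fun r => rfl
    have hC := punct_sec (L := L) hx h hgd
    have hy₀ : maximalIdeal R₀ ≤
        (Ideal.span (Set.range fun i => Ideal.Quotient.mk (Ideal.span {x}) (y i))).radical := by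
      rw [← GrothLib.RegLoc.map_maximalIdeal_quotient]
      refine (Ideal.map_mono hy).trans ((Ideal.map_radical_le _).trans (Ideal.radical_mono ?_))
      rw [Ideal.map_span, ← Set.range_comp]
      rfl
    haveI : Algebra.Etale R₀ C := ih R₀ hdim0 d _ hy₀ C hC
    haveI : Module.Finite R₀ C := hC.finite
    haveI : IsAdicComplete (Ideal.span {x}) R :=
      GrothLib.AdicExtra.isAdicComplete_of_le (J := maximalIdeal R)
        ((Ideal.span_singleton_le_iff_mem _).mpr hxm) (IsNoetherian.noetherian _)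
    obtain ⟨B, _, _, hBf, hBe, ⟨e⟩⟩ := GrothLib.Hensel.exists_finite_etale_lift (Ideal.span {x}) C
    let g₁ : B →ₐ[R] C := (e.toAlgHom.restrictScalars R).comp Algebra.TensorProduct.includeRight
    obtain ⟨hg₁, hg₁k⟩ := GrothLib.Hensel.ker_eq_of_tensor_equiv (Ideal.span {x}) g₁ e fun b => rfl
    obtain ⟨φ, hφ⟩ := exists_hom hx h hgd (C.val.comp g₁) fun c => (g₁ c).2
    have hb : Function.Bijective φ := bijective_of_lift (L := L) hx hxm h φ
      (fun t => by
        obtain ⟨c, hc⟩ := hg₁ ⟨qmap x A L 1 t, qmap_mem 1 t⟩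
        exact ⟨c, (hφ c).trans (congrArg Subtype.val hc)⟩)
      (fun c hc => by
        rw [← hg₁k]
        refine Subtype.ext ?_
        rw [hφ] at hc
        exact hc)
    exact Algebra.Etale.of_equiv (AlgEquiv.ofBijective φ hb)

/-! ### Base change -/

section BaseChange

variable {R : Type u} [CommRing R] {d : ℕ} {y : Fin d → R} {A : Type u} [CommRing A] [Algebra R A]
  (S : Type u) [CommRing S] [Algebra R S]

theorem piRight_eq_lTensor {ι : Type} [Fintype ι] [DecidableEq ι] {M : ι → Type u}
    [∀ i, AddCommGroup (M i)] [∀ i, Module R (M i)] (z : S ⊗[R] (∀ i, M i)) (i : ι) :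
    TensorProduct.piRight R S S M z i = (LinearMap.proj i : (∀ i, M i) →ₗ[R] M i).lTensor S z := by
  induction z using TensorProduct.induction_on with
  | zero => simp
  | tmul s m => simp
  | add a b ha hb => simp [map_add, ← ha, ← hb]

theorem Punct.baseChange [Module.Flat R S] (h : Punct R y A) :
    Punct S (fun i => algebraMap R S (y i)) (S ⊗[R] A) := by
  classical
  haveI := h.finite
  have hsm : ∀ (k : ℕ) i (u : S ⊗[R] A), algebraMap R S (y i) ^ k • u = y i ^ k • u := fun k i u => by
    rw [← map_pow, algebraMap_smul]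
  obtain ⟨d0, hd0c⟩ : ∃ d0 : ℕ → A →ₗ[R] (Fin d → A),
      ∀ k i, (LinearMap.proj i).comp (d0 k) = (y i ^ k) • (LinearMap.id : A →ₗ[R] A) :=
    ⟨fun k => LinearMap.pi fun i => (y i ^ k) • LinearMap.id, fun k i => LinearMap.proj_pi _ _⟩
  have hd0 : ∀ k u i, d0 k u i = y i ^ k • u := fun k u i => LinearMap.congr_fun (hd0c k i) u
  have hd0t : ∀ k (u : S ⊗[R] A) i,
      TensorProduct.piRight R S S (fun _ => A) ((d0 k).lTensor S u) i = y i ^ k • u := by
    intro k u i
    rw [piRight_eq_lTensor, ← LinearMap.comp_apply, ← LinearMap.lTensor_comp]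
    rw [hd0c]
    rw [LinearMap.lTensor_smul, LinearMap.smul_apply, LinearMap.lTensor_id, LinearMap.id_apply]
  refine ⟨inferInstance, fun k u hu => ?_, fun k t ht => ?_, ?_, ?_⟩
  · have hinj : Function.Injective ((d0 k).lTensor S) := by
      refine Module.Flat.lTensor_preserves_injective_linearMap _ ?_
      rw [injective_iff_map_eq_zero]
      exact fun w hw => h.inj k w fun i => by rw [← hd0, hw]; rfl
    refine hinj ((TensorProduct.piRight R S S fun _ : Fin d => A).injective (funext fun i => ?_))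
    rw [map_zero, map_zero, Pi.zero_apply, hd0t, ← hsm]
    exact hu i
  · obtain ⟨d1, hd1c⟩ : ∃ d1 : (Fin d → A) →ₗ[R] (Fin d × Fin d → A), ∀ ij : Fin d × Fin d,
        (LinearMap.proj ij).comp d1 =
          (y ij.2 ^ k) • LinearMap.proj ij.1 - (y ij.1 ^ k) • LinearMap.proj ij.2 :=
      ⟨LinearMap.pi fun ij => (y ij.2 ^ k) • LinearMap.proj ij.1 - (y ij.1 ^ k) • LinearMap.proj ij.2,
        fun ij => LinearMap.proj_pi _ _⟩
    have hd1 : ∀ w (ij : Fin d × Fin d), d1 w ij = y ij.2 ^ k • w ij.1 - y ij.1 ^ k • w ij.2 :=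
      fun w ij => LinearMap.congr_fun (hd1c ij) w
    have hex : Function.Exact (d0 k) d1 := by
      intro w
      constructor
      · intro hw
        obtain ⟨u, hu⟩ := h.sat k w fun i j => sub_eq_zero.mp (by rw [← hd1 w (i, j), hw]; rfl)
        exact ⟨u, funext fun i => (hd0 k u i).trans (hu i)⟩
      · rintro ⟨u, rfl⟩
        funext ij
        rw [hd1, hd0, hd0, smul_comm, sub_self]; rfl
    let τ := (TensorProduct.piRight R S S fun _ : Fin d => A).symm t
    have hτ : d1.lTensor S τ = 0 := by
      refine (TensorProduct.piRight R S S fun _ : Fin d × Fin d => A).injective (funext fun ij => ?_)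
      rw [map_zero, Pi.zero_apply, piRight_eq_lTensor, ← LinearMap.comp_apply, ← LinearMap.lTensor_comp]
      rw [hd1c]
      rw [LinearMap.lTensor_sub, LinearMap.lTensor_smul, LinearMap.lTensor_smul, LinearMap.sub_apply,
        LinearMap.smul_apply, LinearMap.smul_apply, ← piRight_eq_lTensor, ← piRight_eq_lTensor,
        LinearEquiv.apply_symm_apply, ← hsm, ← hsm, ht, sub_self]
    obtain ⟨u, hu⟩ := (Module.Flat.lTensor_exact S hex τ).mp hτ
    refine ⟨u, fun i => ?_⟩
    rw [hsm, ← hd0t, hu, LinearEquiv.apply_symm_apply]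
  · obtain ⟨k, hk0, hk⟩ := h.proj
    refine ⟨k, hk0, fun i => ?_⟩
    obtain ⟨a, ι, π, hπ⟩ := hk i
    let E := TensorProduct.piScalarRight R S S (Fin a)
    refine ⟨a, E.toLinearMap.comp (ι.baseChange S), (π.baseChange S).comp E.symm.toLinearMap,
      fun z => ?_⟩
    have hcomp : π.comp ι = (y i ^ k) • LinearMap.id := LinearMap.ext hπ
    show π.baseChange S (E.symm (E (ι.baseChange S z))) = _
    rw [LinearEquiv.symm_apply_apply, ← LinearMap.comp_apply, ← LinearMap.baseChange_comp, hcomp,
      LinearMap.baseChange_smul, LinearMap.baseChange_id, hsm]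
    rfl
  · intro i
    haveI := h.etale i
    let Ay := Localization.Away (algebraMap R A (y i))
    haveI : Algebra.Etale S (S ⊗[R] Ay) := inferInstance
    have he : algebraMap S (S ⊗[R] A) (algebraMap R S (y i)) = (1 : S) ⊗ₜ[R] algebraMap R A (y i) := by
      rw [Algebra.TensorProduct.algebraMap_apply, Algebra.algebraMap_self_apply,
        Algebra.algebraMap_eq_smul_one, Algebra.algebraMap_eq_smul_one, TensorProduct.smul_tmul]
    rw [he]
    exact Algebra.Etale.of_equiv
      (IsLocalization.Away.tensorProductEquivTMulRight R S (algebraMap R A (y i)) Ay)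

end BaseChange

/-- Purity for saturated algebras over regular local rings of dimension at least two. -/
theorem etale_of_punct {R : Type u} [CommRing R] [IsRegularLocalRing R] {d : ℕ} {y : Fin d → R}
    {A : Type u} [CommRing A] [Algebra R A] (hdim : 2 ≤ ringKrullDim R)
    (hy : maximalIdeal R ≤ (Ideal.span (Set.range y)).radical) (h : Punct R y A) :
    Algebra.Etale R A := by
  haveI := GrothLib.CMFree.isDomain_of_isRegularLocalRing R
  let Rh := AdicCompletion (maximalIdeal R) R
  haveI : IsRegularLocalRing Rh := GrothLib.AdicExtra.isRegularLocalRing_adicCompletion_iff.mp ‹_›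
  haveI := GrothLib.CMFree.isDomain_of_isRegularLocalRing Rh
  haveI : Module.Flat R Rh := AdicCompletion.flat_of_isNoetherian _
  haveI : Module.FaithfullyFlat R Rh := Module.FaithfullyFlat.of_flat_of_isLocalHom
  obtain ⟨n, hn, -⟩ := GrothLib.RegLoc.exists_dim_eq (R := R)
  have hn2 : 2 ≤ n := by rw [hn] at hdim; exact_mod_cast hdim
  have hdh : ringKrullDim Rh = ((n - 2 + 2 : ℕ) : WithBot ℕ∞) := by
    rw [GrothLib.AdicExtra.ringKrullDim_adicCompletion, hn, show n - 2 + 2 = n by omega]
  have hyh : maximalIdeal Rh ≤ (Ideal.span (Set.range fun i => algebraMap R Rh (y i))).radical := by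
    rw [AdicCompletion.maximalIdeal_eq_map]
    refine (Ideal.map_mono hy).trans ((Ideal.map_radical_le _).trans (Ideal.radical_mono ?_))
    rw [Ideal.map_span, ← Set.range_comp]
    rfl
  haveI : Algebra.Etale Rh (Rh ⊗[R] A) :=
    etale_of_punct_complete (n - 2) Rh hdh d _ hyh _ (h.baseChange Rh)
  haveI := h.finite
  haveI : Module.Flat R A := (Module.Flat.iff_flat_tensorProduct R A Rh).mp inferInstance
  haveI : Module.Free R A := Module.free_of_flat_of_isLocalRing
  exact etale_of_free hy hdim h.etale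

end GrothLib.Purity
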