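import Groth.Agent.Lib.Purity.Normal
import Groth.Agent.Lib.SGA1Quot21.Galois
import Groth.Agent.Lib.WildQuot.Invariants
import Groth.Agent.S12935

/-!
# Inertia in codimension one generates, for extensions of regular local rings
-/

set_option linter.style.haveILetI false
set_option linter.unusedSectionVars false

universe u v w

open IsLocalRing TensorProduct
open scoped Pointwise

namespace GrothLib.Purity

theorem height_le_under {R : Type u} {S : Type v} [CommRing R] [CommRing S] [Algebra R S]
    [Algebra.IsIntegral R S] (Q : Ideal S) [Q.IsPrime] : Q.height ≤ (Q.under R).height := by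
  have hmono : StrictMono (PrimeSpectrum.comap (algebraMap R S)) := fun I J hIJ => by
    obtain ⟨hle, x, hxJ, hxI⟩ :=
      SetLike.lt_iff_le_and_exists.mp (show I.asIdeal < J.asIdeal from hIJ)
    exact Ideal.comap_lt_comap_of_integral_mem_sdiff hle ⟨hxJ, hxI⟩ (Algebra.IsIntegral.isIntegral x)
  have h := Order.height_le_height_apply_of_strictMono _ hmono ⟨Q, ‹_›⟩
  rw [← PrimeSpectrum.height_eq_orderHeight, ← PrimeSpectrum.height_eq_orderHeight] at h
  exact h

/-- A finite group action with trivial inertia over a prime of the invariants is étale there. -/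
theorem isEtaleAt_of_inertia {G R B : Type u} [Group G] [Finite G] [CommRing R] [IsNoetherianRing R]
    [CommRing B] [Algebra R B] [MulSemiringAction G B] [SMulCommClass G R B]
    [Algebra.IsInvariant R B G] [FaithfulSMul R B] [Module.Finite R B] (q : Ideal B) [q.IsPrime]
    (h : ∀ q' : Ideal B, q'.IsPrime → q'.under R = q.under R →
      ∀ g : G, g ≠ 1 → ∃ b : B, g • b - b ∉ q') : Algebra.IsEtaleAt R q := by
  classical
  haveI := Fintype.ofFinite G
  haveI : Algebra.IsIntegral R B := inferInstance
  haveI : Algebra.FinitePresentation R B := Algebra.FinitePresentation.of_finiteType.mp inferInstance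
  set p := q.under R with hp
  let I : G → Ideal B := fun g => Ideal.span (Set.range fun b : B => g • b - b)
  have key : ∀ g : G, ∃ f : R, f ∉ p ∧ (g ≠ 1 → algebraMap R B f ∈ I g) := by
    intro g
    by_cases hg : g = 1
    · exact ⟨1, (Ideal.ne_top_iff_one p).mp Ideal.IsPrime.ne_top', fun h1 => absurd hg h1⟩
    by_contra! hc
    have hle : (I g).comap (algebraMap R B) ≤ p := fun f hf => by
      by_contra hfp
      exact (hc f hfp).2 hf
    obtain ⟨q', hq', hq'p, hq'c⟩ := Ideal.exists_ideal_over_prime_of_isIntegral p (I g) hle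
    obtain ⟨b, hb⟩ := h q' hq'p hq'c g hg
    exact hb (hq' (Ideal.subset_span ⟨b, rfl⟩))
  choose f hfp hfI using key
  let F := ∏ g, f g
  have hFp : F ∉ p := fun hF => by
    obtain ⟨g, -, hg⟩ := Ideal.IsPrime.prod_mem_iff.mp hF
    exact hfp g hg
  have hFI : ∀ g : G, g ≠ 1 → algebraMap R B F ∈ I g := fun g hg => by
    obtain ⟨c, hc⟩ := Finset.dvd_prod_of_mem f (Finset.mem_univ g)
    rw [show F = f g * c from hc, map_mul]
    exact Ideal.mul_mem_right _ _ (hfI g hg)
  let Rf := Localization.Away F
  let T := Rf ⊗[R] B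
  let σ : G → T →ₐ[Rf] T := fun g =>
    Algebra.TensorProduct.map (AlgHom.id Rf Rf) (MulSemiringAction.toAlgHom R B g)
  have hσ : ∀ (g : G) (r : Rf) (b : B), σ g (r ⊗ₜ[R] b) = r ⊗ₜ[R] (g • b) := fun g r b => rfl
  letI : MulSemiringAction G T :=
    { smul := fun g z => σ g z
      one_smul := fun z => by
        show σ 1 z = z
        induction z using TensorProduct.induction_on with
        | zero => exact map_zero _
        | tmul r b => rw [hσ, one_smul]
        | add a b ha hb => rw [map_add, ha, hb]
      mul_smul := fun g k z => by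
        show σ (g * k) z = σ g (σ k z)
        induction z using TensorProduct.induction_on with
        | zero => rw [map_zero, map_zero, map_zero]
        | tmul r b => rw [hσ, hσ, hσ, mul_smul]
        | add a b ha hb => rw [map_add, map_add, map_add, ha, hb]
      smul_zero := fun g => map_zero (σ g)
      smul_add := fun g => map_add (σ g)
      smul_one := fun g => map_one (σ g)
      smul_mul := fun g => map_mul (σ g) }
  have hsmul : ∀ (g : G) (z : T), g • z = σ g z := fun g z => rfl
  haveI : SMulCommClass G Rf T := ⟨fun g r z => by rw [hsmul, hsmul]; exact map_smul (σ g) r z⟩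
  haveI : Algebra.IsInvariant Rf T G := ⟨fun x hx => by
    have hlin : ∀ g : G, ∀ z : T,
        (MulSemiringAction.toAlgHom R B g).toLinearMap.lTensor Rf z = σ g z := fun g z => by
      induction z using TensorProduct.induction_on with
      | zero => rw [map_zero, map_zero]
      | tmul r b => rw [hσ]; rfl
      | add a b ha hb => rw [map_add, map_add, ha, hb]
    obtain ⟨r, hr⟩ := GrothLib.SGA1Quot21.exists_of_invariant_tensor (G := G) Rf x
      fun g => (hlin g x).trans (hx g)
    exact ⟨r, hr.symm⟩⟩
  haveI : FaithfulSMul Rf T := ⟨fun {r s} h => GrothLib.SGA1Quot21.injective_tmul_one (A := B) Rf (by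
    have h1 := h ((1 : Rf) ⊗ₜ (1 : B))
    rw [TensorProduct.smul_tmul', TensorProduct.smul_tmul', smul_eq_mul, smul_eq_mul, mul_one, mul_one] at h1
    exact h1)⟩
  have hfree : ∀ g : G, g ≠ 1 → Ideal.span (Set.range fun a : T => g • a - a) = ⊤ := by
    intro g hg
    let ι : B →ₐ[R] T := Algebra.TensorProduct.includeRight
    have h1 : (I g).map ι ≤ Ideal.span (Set.range fun a : T => g • a - a) := by
      rw [Ideal.map_span, Ideal.span_le]
      rintro _ ⟨_, ⟨b, rfl⟩, rfl⟩
      refine Ideal.subset_span ⟨ι b, ?_⟩
      show σ g ((1 : Rf) ⊗ₜ b) - (1 : Rf) ⊗ₜ b = ι (g • b - b)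
      rw [hσ, map_sub]
      rfl
    refine Ideal.eq_top_of_isUnit_mem _ (h1 (Ideal.mem_map_of_mem ι (hFI g hg))) ?_
    rw [AlgHom.commutes, IsScalarTower.algebraMap_apply R Rf T]
    exact (IsLocalization.Away.algebraMap_isUnit F).map _
  haveI : Algebra.Etale Rf T := GrothLib.SGA1Quot21.etale (G := G) hfree
  haveI : Algebra.Etale R Rf := Algebra.Etale.of_isLocalizationAway F
  haveI : Algebra.Etale R T := Algebra.Etale.comp R Rf T
  letI : Algebra B T := Algebra.TensorProduct.rightAlgebra
  haveI : IsLocalization.Away (algebraMap R B F) T := IsLocalization.Away.tensorRight F Rf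
  let e : Localization.Away (algebraMap R B F) ≃ₐ[B] T :=
    IsLocalization.algEquiv (Submonoid.powers (algebraMap R B F)) _ _
  haveI : Algebra.Etale R (Localization.Away (algebraMap R B F)) :=
    Algebra.Etale.of_equiv (e.restrictScalars R).symm
  exact Algebra.basicOpen_subset_etaleLocus_iff_etale.mpr inferInstance
    (show (⟨q, ‹_›⟩ : PrimeSpectrum B) ∈ PrimeSpectrum.basicOpen (algebraMap R B F) from hFp)

/-- Unramified finite local extensions without residue field extension are surjective. -/
theorem surjective_of_unramified_of_residue {R : Type u} {B : Type v} [CommRing R] [CommRing B]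
    [IsLocalRing R] [IsLocalRing B] [Algebra R B] [Module.Finite R B] [IsLocalHom (algebraMap R B)]
    [Algebra.FormallyUnramified R B]
    (hres : ∀ b : B, ∃ r : R, b - algebraMap R B r ∈ maximalIdeal B) :
    Function.Surjective (algebraMap R B) := by
  have hle : (⊤ : Submodule R B) ≤ LinearMap.range (Algebra.linearMap R B) ⊔ maximalIdeal R • ⊤ := by
    intro b _
    obtain ⟨r, hr⟩ := hres b
    rw [← add_sub_cancel (algebraMap R B r) b]
    refine Submodule.add_mem_sup ⟨r, rfl⟩ ?_
    rw [← Algebra.FormallyUnramified.map_maximalIdeal (R := R) (S := B)] at hr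
    rwa [Ideal.smul_top_eq_map]
  have := Submodule.le_of_le_smul_of_le_jacobson_bot (Module.finite_def.mp inferInstance)
    (maximalIdeal_le_jacobson _) hle
  exact fun b => this (trivial : b ∈ ⊤)

section Inertia

theorem conj_mem_inertia {A : Type u} [CommRing A] {G : Type v} [Group G] [MulSemiringAction G A]
    {P : Ideal A} (g h : G) (hg : g ∈ P.inertia G) : h * g * h⁻¹ ∈ (h • P).inertia G := by
  intro x
  show (h * g * h⁻¹) • x - x ∈ h • P
  rw [mul_smul, mul_smul, show h • g • h⁻¹ • x - x = h • (g • h⁻¹ • x - h⁻¹ • x) by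
    rw [smul_sub, smul_inv_smul]]
  exact (Ideal.smul_mem_pointwise_smul_iff (a := h)).mpr (hg _)

variable (R A G : Type u) [CommRing R] [IsRegularLocalRing R] [CommRing A] [IsDomain A]
  [IsIntegrallyClosed A] [IsLocalRing A] [Algebra R A] [Module.Finite R A] [FaithfulSMul R A]
  [Group G] [Finite G] [MulSemiringAction G A] [SMulCommClass G R A] [FaithfulSMul G A]
  [Algebra.IsInvariant R A G]

theorem iSup_inertia_eq_top_aux (hres : Function.Surjective (residue A ∘ algebraMap R A)) :
    (⨆ P : {P : Ideal A // P.IsPrime ∧ P.height = 1}, P.1.inertia G) = ⊤ := by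
  haveI := GrothLib.CMFree.isDomain_of_isRegularLocalRing R
  haveI := GrothLib.RegUFD.ufd_of_isRegularLocalRing R
  set H := ⨆ P : {P : Ideal A // P.IsPrime ∧ P.height = 1}, P.1.inertia G with hH
  have hHn : H.Normal := ⟨fun n hn g => by
    induction hn using Subgroup.iSup_induction' with
    | hp P x hx =>
      haveI := P.2.1
      have hP : (g • P.1).IsPrime ∧ (g • P.1).height = 1 := by
        refine ⟨inferInstance, ?_⟩
        rw [Ideal.pointwise_smul_def]
        exact (RingEquiv.height_map (MulSemiringAction.toRingEquiv G A g) P.1).trans P.2.2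
      exact le_iSup (fun P : {P : Ideal A // P.IsPrime ∧ P.height = 1} => P.1.inertia G) ⟨_, hP⟩
        (conj_mem_inertia x g hx)
    | h1 => simp
    | hmul x y _ _ hx hy =>
      rw [show g * (x * y) * g⁻¹ = g * x * g⁻¹ * (g * y * g⁻¹) by group]
      exact H.mul_mem hx hy⟩
  let B := FixedPoints.subalgebra R A H
  haveI : IsNoetherianRing A := IsNoetherianRing.of_finite R A
  haveI : Algebra.IsInvariant B A H := ⟨fun a ha => ⟨⟨a, ha⟩, rfl⟩⟩
  haveI : SMulCommClass H B A := ⟨fun h b a => by
    show h • ((b : A) * a) = (b : A) * h • a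
    rw [smul_mul', b.2 h]⟩
  haveI : IsIntegrallyClosed B :=
    GrothLib.WildQuot.isIntegrallyClosed_of_isInvariant B A H Subtype.val_injective
  haveI : IsNoetherian R A := isNoetherian_of_isNoetherianRing_of_finite R A
  haveI : Module.Finite R B := Module.Finite.of_injective B.val.toLinearMap Subtype.val_injective
  haveI : FaithfulSMul R B := (faithfulSMul_iff_algebraMap_injective _ _).mpr fun a b hab =>
    FaithfulSMul.algebraMap_injective R A (congrArg Subtype.val hab)
  haveI : IsNoetherianRing B := IsNoetherianRing.of_finite R B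
  haveI : FaithfulSMul B A := (faithfulSMul_iff_algebraMap_injective _ _).mpr Subtype.val_injective
  haveI : Algebra.IsIntegral B A := Algebra.IsIntegral.tower_top R
  -- inertia of the primes of `B` of height at most one
  have hinert : ∀ q : Ideal B, q.IsPrime → q.height ≤ 1 → ∀ g : G ⧸ H, g ≠ 1 →
      ∃ b : B, g • b - b ∉ q := by
    intro q hq hq1 g hg
    induction g using QuotientGroup.induction_on with
    | H g =>
      by_contra! hall
      refine hg ((QuotientGroup.eq_one_iff g).mpr ?_)
      obtain ⟨⟨P, hP, hPq⟩⟩ := Ideal.nonempty_primesOver (S := A) q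
      have hPh : P.height ≤ 1 := (height_le_under (R := B) P).trans (hPq.over ▸ hq1)
      have hmem : ∀ x : A, (∀ ω ∈ H, ω • x = x) → g • x - x ∈ P := fun x hx => by
        have h1 := hall ⟨x, fun ω => hx ω.1 ω.2⟩
        rw [hPq.over] at h1
        exact h1
      obtain ⟨ω, hω, hω'⟩ := ((Groth.Agent.S12935.result A G H P g).2).mp hmem
      suffices g * ω ∈ H by simpa using H.mul_mem this (H.inv_mem hω)
      rcases lt_or_eq_of_le hPh with h0 | h1
      · have hbot : P = ⊥ := Ideal.height_eq_zero_iff_eq_bot.mp (Order.lt_one_iff.mp h0)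
        have : g * ω = 1 := FaithfulSMul.eq_of_smul_eq_smul (α := A) fun x => by
          rw [one_smul, ← sub_eq_zero]
          simpa [hbot] using hω' x
        rw [this]; exact H.one_mem
      · exact le_iSup (fun P : {P : Ideal A // P.IsPrime ∧ P.height = 1} => P.1.inertia G)
          ⟨P, hP, h1⟩ hω'
  obtain ⟨m, hm, -⟩ := GrothLib.RegLoc.exists_dim_eq (R := R)
  haveI : Algebra.Etale R B := by
    refine purity_of_finite_normal m R hm.le B fun q _ hq1 => ?_
    haveI : Algebra.IsEtaleAt R q := isEtaleAt_of_inertia (G := G ⧸ H) q fun q' hq' hqq g hg => by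
      haveI := hq'
      refine hinert q' hq' ((height_le_under (R := R) q').trans ?_) g hg
      rw [hqq]
      haveI : q.LiesOver (q.under R) := ⟨rfl⟩
      rw [Ideal.height_eq_height_add_of_liesOver_of_hasGoingDown (q.under R) q] at hq1
      exact le_self_add.trans hq1
    exact (Algebra.FormallyEtale.iff_formallyUnramified_and_formallySmooth.mp ‹_›).1
  haveI : IsLocalHom (algebraMap B A) := inferInstance
  haveI : IsLocalRing B := RingHom.domain_isLocalRing (algebraMap B A)
  haveI : IsLocalHom (algebraMap R B) := inferInstance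
  have hsurj : Function.Surjective (algebraMap R B) := surjective_of_unramified_of_residue fun b => by
    obtain ⟨r, hr⟩ := hres (residue A (b : A))
    refine ⟨r, ?_⟩
    rw [IsLocalRing.mem_maximalIdeal, mem_nonunits_iff]
    intro hu
    have hu' := hu.map (algebraMap B A)
    refine (IsLocalRing.mem_maximalIdeal (x := (b : A) - algebraMap R A r)).mp ?_ ?_
    · rw [← residue_eq_zero_iff, map_sub]
      exact sub_eq_zero.mpr hr.symm
    · rw [map_sub, ← IsScalarTower.algebraMap_apply] at hu'
      exact hu'
  rw [eq_top_iff]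
  intro g _
  rw [← QuotientGroup.eq_one_iff]
  by_contra hg
  obtain ⟨b, hb⟩ := hinert ⊥ Ideal.isPrime_bot (by rw [Ideal.height_bot]; exact zero_le_one) _ hg
  obtain ⟨r, rfl⟩ := hsurj b
  rw [smul_algebraMap, sub_self] at hb
  exact hb (zero_mem _)

end Inertia

/-- The inertia groups of height one primes generate. -/
theorem iSup_inertia_eq_top (R : Type u) [CommRing R] [IsRegularLocalRing R]
    (A : Type v) [CommRing A] [IsDomain A] [IsIntegrallyClosed A] [IsLocalRing A]
    [Algebra R A] [Module.Finite R A] (hinj : Function.Injective (algebraMap R A))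
    (hres : Function.Surjective (residue A ∘ algebraMap R A))
    (H : Type w) [Group H] [Finite H] [MulSemiringAction H A] [SMulCommClass H R A] [FaithfulSMul H A]
    (hfix : ∀ a : A, (∀ h : H, h • a = a) → a ∈ Set.range (algebraMap R A)) :
    (⨆ P : {P : Ideal A // P.IsPrime ∧ P.height = 1}, P.1.inertia H) = ⊤ := by
  let R' := (Algebra.ofId R A).range
  let eR : R ≃ₐ[R] R' := AlgEquiv.ofInjective (Algebra.ofId R A) hinj
  haveI : IsRegularLocalRing R' := IsRegularLocalRing.of_ringEquiv eR.toRingEquiv
  haveI : Module.Finite R' A := Module.Finite.of_restrictScalars_finite R R' A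
  haveI : FaithfulSMul R' A := (faithfulSMul_iff_algebraMap_injective _ _).mpr Subtype.val_injective
  let ρ := MulSemiringAction.toAlgAut H R A
  have hρ : Function.Injective ρ := fun a b hab =>
    FaithfulSMul.eq_of_smul_eq_smul (α := A) fun x => AlgEquiv.congr_fun hab x
  let e := MonoidHom.ofInjective hρ
  haveI : Finite ρ.range := Finite.of_equiv H e.toEquiv
  haveI : SMulCommClass ρ.range R' A := ⟨fun g r a => by
    obtain ⟨r, s, rfl⟩ := r
    show g.1 (algebraMap R A s * a) = algebraMap R A s * g.1 a
    rw [map_mul, AlgEquiv.commutes]⟩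
  haveI : FaithfulSMul ρ.range A := ⟨fun h => Subtype.ext (AlgEquiv.ext h)⟩
  haveI : Algebra.IsInvariant R' A ρ.range := ⟨fun a ha => by
    obtain ⟨r, hr⟩ := hfix a fun h => ha (e h)
    exact ⟨⟨a, r, hr⟩, rfl⟩⟩
  have hres' : Function.Surjective (residue A ∘ algebraMap R' A) := fun x => by
    obtain ⟨r, hr⟩ := hres x
    exact ⟨⟨algebraMap R A r, r, rfl⟩, hr⟩
  have h1 := iSup_inertia_eq_top_aux R' A ρ.range hres'
  have h2 : (⊤ : Subgroup ρ.range).comap e.toMonoidHom = ⊤ := Subgroup.comap_top _
  rw [← h1, Subgroup.comap_equiv_eq_map_symm', Subgroup.map_iSup] at h2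
  rw [← h2]
  refine iSup_congr fun P => ?_
  ext h
  rw [← Subgroup.comap_equiv_eq_map_symm', Subgroup.mem_comap]
  exact Iff.rfl

end GrothLib.Purity
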