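import Mathlib

/-!
# Purity: modules over a domain saturated with respect to a family
-/

set_option linter.style.haveILetI false
set_option linter.unusedSectionVars false

universe u v

namespace GrothLib.Purity

/-- A finite algebra which is saturated, locally a summand of a free module, and étale, off the
common zeros of `y`. -/
structure Punct (R : Type u) [CommRing R] {d : ℕ} (y : Fin d → R) (A : Type v) [CommRing A]
    [Algebra R A] : Prop where
  finite : Module.Finite R A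
  inj : ∀ (k : ℕ) (u : A), (∀ i, y i ^ k • u = 0) → u = 0
  sat : ∀ (k : ℕ) (t : Fin d → A), (∀ i j, y j ^ k • t i = y i ^ k • t j) →
    ∃ u, ∀ i, y i ^ k • u = t i
  proj : ∃ k : ℕ, 0 < k ∧ ∀ i, ∃ (a : ℕ) (ι : A →ₗ[R] (Fin a → R)) (π : (Fin a → R) →ₗ[R] A),
    ∀ t, π (ι t) = y i ^ k • t
  etale : ∀ i, Algebra.Etale R (Localization.Away (algebraMap R A (y i)))

variable {R : Type u} [CommRing R] [IsDomain R] {d : ℕ} {y : Fin d → R} {A : Type v} [CommRing A]
  [Algebra R A]

theorem Punct.torsion (h : Punct R y A) {r : R} (hr : r ≠ 0) {u : A} (hu : r • u = 0) : u = 0 := by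
  obtain ⟨k, -, hk⟩ := h.proj
  refine h.inj k u fun i => ?_
  obtain ⟨a, ι, π, hπ⟩ := hk i
  have h1 : r • ι u = 0 := by rw [← map_smul, hu, map_zero]
  rw [← hπ, (smul_eq_zero.mp h1).resolve_left hr, map_zero]

theorem Punct.cancel (h : Punct R y A) {r : R} (hr : r ≠ 0) {u w : A} (hu : r • u = r • w) :
    u = w :=
  sub_eq_zero.mp (h.torsion hr (by rw [smul_sub, hu, sub_self]))

theorem Punct.dvd_of_forall (h : Punct R y A) {r : R} (hr : r ≠ 0) {t : A}
    (ht : ∀ i, ∃ (K : ℕ) (u : A), y i ^ K • t = r • u) : ∃ u, t = r • u := by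
  choose K w hw using ht
  set N := Finset.univ.sup K
  have hN : ∀ i, K i ≤ N := fun i => Finset.le_sup (Finset.mem_univ i)
  let s : Fin d → A := fun i => y i ^ (N - K i) • w i
  have hs : ∀ i, r • s i = y i ^ N • t := fun i => by
    rw [smul_comm, ← hw i, ← mul_smul, ← pow_add, Nat.sub_add_cancel (hN i)]
  obtain ⟨u, hu⟩ := h.sat N s fun i j => h.cancel hr (by
    rw [smul_comm r, hs, smul_comm r, hs, smul_comm])
  refine ⟨u, sub_eq_zero.mp (h.inj N _ fun i => ?_)⟩
  rw [smul_sub, smul_comm _ r, hu, hs, sub_self]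

theorem Punct.dvd_of_mul (h : Punct R y A) {x : R} (hx : Prime x) {s : R} (hs : ¬ x ∣ s) (n : ℕ)
    {t w : A} (ht : s • t = x ^ n • w) : ∃ u, t = x ^ n • u := by
  obtain ⟨k, -, hk⟩ := h.proj
  refine h.dvd_of_forall (pow_ne_zero n hx.ne_zero) fun i => ⟨k, ?_⟩
  obtain ⟨a, ι, π, hπ⟩ := hk i
  have h1 : ∀ l, x ^ n ∣ ι t l := fun l => by
    refine hx.pow_dvd_of_dvd_mul_left n hs ⟨ι w l, ?_⟩
    have := congrFun (congrArg ι ht) l
    simpa using this
  choose c hc using h1
  refine ⟨π c, ?_⟩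
  rw [← map_smul, ← hπ]
  exact congrArg π (funext fun l => by simp [hc l])

theorem Punct.eq_zero_of_forall_dvd [IsNoetherianRing R] (h : Punct R y A) {x : R} (hx : ¬ IsUnit x)
    {t : A} (ht : ∀ n : ℕ, ∃ u, t = x ^ n • u) : t = 0 := by
  obtain ⟨k, -, hk⟩ := h.proj
  refine h.inj k t fun i => ?_
  obtain ⟨a, ι, π, hπ⟩ := hk i
  have h1 : ι t = 0 := funext fun l => by
    have hmem : ι t l ∈ ⨅ n : ℕ, Ideal.span {x} ^ n := by
      rw [Submodule.mem_iInf]
      intro n
      obtain ⟨u, hu⟩ := ht n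
      rw [Ideal.span_singleton_pow, Ideal.mem_span_singleton, hu, map_smul]
      exact ⟨ι u l, rfl⟩
    rw [Ideal.iInf_pow_eq_bot_of_isDomain _ (by rwa [Ne, Ideal.span_singleton_eq_top])] at hmem
    exact hmem
  rw [← hπ, h1, map_zero]

/-- Saturation of `R/(x^n)`: compatible families come from one element. -/
theorem sat_mod {d : ℕ} {y : Fin d → R} {x p q : R} (hx : Prime x)
    (hxp : (Ideal.span {x, p}).IsPrime) (hp : ¬ x ∣ p) (hq : q ∉ Ideal.span {x, p})
    (hpy : p ∈ (Ideal.span (Set.range y)).radical) (hqy : q ∈ (Ideal.span (Set.range y)).radical)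
    (n K : ℕ) (r : Fin d → R) (hr : ∀ i j, x ^ n ∣ y j ^ K * r i - y i ^ K * r j) :
    ∃ u, ∀ i, x ^ n ∣ y i ^ K * u - r i := by
  -- `q` is regular modulo `(x^n, p^N)`
  have hB : ∀ N : ℕ, ∀ a : R, q * a ∈ Ideal.span {x, p ^ N} → a ∈ Ideal.span {x, p ^ N} := by
    intro N
    induction N with
    | zero =>
      intro a _
      rw [pow_zero, Ideal.mem_span_pair]
      exact ⟨0, a, by ring⟩
    | succ N ih =>
      intro a ha
      have ha1 : a ∈ Ideal.span {x, p} := by
        refine (hxp.mem_or_mem ?_).resolve_left hq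
        obtain ⟨e, f, hef⟩ := Ideal.mem_span_pair.mp ha
        exact Ideal.mem_span_pair.mpr ⟨e, f * p ^ N, by rw [← hef]; ring⟩
      obtain ⟨b, c, hbc⟩ := Ideal.mem_span_pair.mp ha1
      obtain ⟨e, f, hef⟩ := Ideal.mem_span_pair.mp ha
      have h1 : x ∣ p * (q * c - f * p ^ N) := ⟨e - q * b, by linear_combination q * hbc - hef⟩
      obtain ⟨g, hg⟩ := (hx.dvd_or_dvd h1).resolve_left hp
      obtain ⟨e', f', hef'⟩ := Ideal.mem_span_pair.mp (ih c (Ideal.mem_span_pair.mpr
        ⟨g, f, by linear_combination -hg⟩))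
      exact Ideal.mem_span_pair.mpr ⟨b + e' * p, f', by rw [← hbc, ← hef']; ring⟩
  have hC : ∀ n N : ℕ, ∀ a : R, q * a ∈ Ideal.span {x ^ n, p ^ N} → a ∈ Ideal.span {x ^ n, p ^ N} := by
    intro n N
    induction n with
    | zero =>
      intro a _
      rw [pow_zero, Ideal.mem_span_pair]
      exact ⟨a, 0, by ring⟩
    | succ n ih =>
      intro a ha
      obtain ⟨e, f, hef⟩ := Ideal.mem_span_pair.mp ha
      obtain ⟨b, c, hbc⟩ := Ideal.mem_span_pair.mp (hB N a (Ideal.mem_span_pair.mpr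
        ⟨e * x ^ n, f, by rw [← hef]; ring⟩))
      have h1 : x ∣ p ^ N * (f - q * c) := ⟨q * b - e * x ^ n, by linear_combination hef - q * hbc⟩
      obtain ⟨g, hg⟩ := (hx.dvd_or_dvd h1).resolve_left (fun h => hp (hx.dvd_of_dvd_pow h))
      have h2 : q * b = e * x ^ n + g * p ^ N := by
        refine mul_left_cancel₀ hx.ne_zero ?_
        linear_combination q * hbc - hef + p ^ N * hg
      obtain ⟨e', f', hef'⟩ := Ideal.mem_span_pair.mp (ih b (Ideal.mem_span_pair.mpr ⟨e, g, h2.symm⟩))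
      exact Ideal.mem_span_pair.mpr ⟨e', c + f' * x, by rw [← hbc, ← hef']; ring⟩
  have hC' : ∀ M N : ℕ, ∀ a : R, q ^ M * a ∈ Ideal.span {x ^ n, p ^ N} →
      a ∈ Ideal.span {x ^ n, p ^ N} := by
    intro M N
    induction M with
    | zero => intro a ha; simpa using ha
    | succ M ih =>
      intro a ha
      rw [pow_succ', mul_assoc] at ha
      exact ih a (hC n N _ ha)
  -- powers of `p`, `q` in the span of the `y i ^ K`
  have hrad : ∀ z ∈ (Ideal.span (Set.range y)).radical,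
      ∃ (N : ℕ) (c : Fin d → R), z ^ N = ∑ j, c j * y j ^ K := by
    intro z hz
    have h1 : z ∈ (Ideal.span (Set.range fun j => y j ^ K)).radical := by
      rw [← Ideal.radical_idem (I := Ideal.span (Set.range fun j => y j ^ K))]
      refine Ideal.radical_mono (Ideal.span_le.2 ?_) hz
      rintro _ ⟨j, rfl⟩
      exact ⟨K, Ideal.subset_span ⟨j, rfl⟩⟩
    obtain ⟨N, hN⟩ := h1
    obtain ⟨c, hc⟩ := Ideal.mem_span_range_iff_exists_fun.mp hN
    exact ⟨N, c, hc.symm⟩
  obtain ⟨N, cp, hcp⟩ := hrad p hpy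
  obtain ⟨M, cq, hcq⟩ := hrad q hqy
  have key : ∀ (z : R) (N : ℕ) (c : Fin d → R), z ^ N = ∑ j, c j * y j ^ K → ∀ i,
      x ^ n ∣ z ^ N * r i - y i ^ K * ∑ j, c j * r j := by
    intro z N c hc i
    rw [hc, Finset.sum_mul, Finset.mul_sum, ← Finset.sum_sub_distrib]
    refine Finset.dvd_sum fun j _ => ?_
    rw [mul_assoc, mul_left_comm (y i ^ K), ← mul_sub]
    exact (hr i j).mul_left _
  set rp := ∑ j, cp j * r j
  set rq := ∑ j, cq j * r j
  have hqrp : x ^ n ∣ q ^ M * rp - p ^ N * rq := by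
    have : q ^ M * rp - p ^ N * rq = ∑ j, cp j * (q ^ M * r j - y j ^ K * rq) := by
      simp only [mul_sub, Finset.sum_sub_distrib, rp]
      rw [hcp, Finset.sum_mul]
      congr 1
      · rw [Finset.mul_sum]; exact Finset.sum_congr rfl fun j _ => by ring
      · exact Finset.sum_congr rfl fun j _ => by ring
    rw [this]
    exact Finset.dvd_sum fun j _ => (key q M cq hcq j).mul_left _
  obtain ⟨g, hg⟩ := hqrp
  obtain ⟨e, u, heu⟩ := Ideal.mem_span_pair.mp (hC' M N rp (Ideal.mem_span_pair.mpr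
    ⟨g, rq, by linear_combination -hg⟩))
  refine ⟨u, fun i => ?_⟩
  obtain ⟨g', hg'⟩ := key p N cp hcp i
  refine hx.pow_dvd_of_dvd_mul_left n (fun h => hp (hx.dvd_of_dvd_pow h)) (a := p ^ N)
    ⟨-(y i ^ K * e) - g', ?_⟩
  linear_combination y i ^ K * heu - hg'

end GrothLib.Purity
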