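import Groth.Agent.Lib.Purity.Basic

/-!
# Purity: sections over the punctured spectrum modulo powers of a prime element
-/

set_option linter.style.haveILetI false
set_option linter.unusedSectionVars false

universe u v w

namespace GrothLib.Purity

variable {R : Type u} [CommRing R] [IsDomain R]

/-- The elements not divisible by a prime element. -/
def nonDvd {x : R} (hx : Prime x) : Submonoid R where
  carrier := {s | ¬ x ∣ s}
  one_mem' := fun h => hx.not_isUnit (isUnit_of_dvd_one h)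
  mul_mem' := fun ha hb h => (hx.dvd_or_dvd h).elim ha hb

/-- The regular-sequence data of a two dimensional direction. -/
structure Good {d : ℕ} (y : Fin d → R) (x : R) : Prop where
  prime : Prime x
  exists_pair : ∃ p q, (Ideal.span {x, p}).IsPrime ∧ ¬ x ∣ p ∧ q ∉ Ideal.span {x, p} ∧
    p ∈ (Ideal.span (Set.range y)).radical ∧ q ∈ (Ideal.span (Set.range y)).radical
  exists_not_dvd : ∃ j, ¬ x ∣ y j

variable (x : R) {d : ℕ} (y : Fin d → R) {A : Type v} [CommRing A] [Algebra R A]
  {L : Type w} [CommRing L] [Algebra R L] [Algebra A L] [IsScalarTower R A L]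

/-- The ideal `x ^ n L`. -/
def lvl (L : Type w) [CommRing L] [Algebra R L] (n : ℕ) : Ideal L :=
  Ideal.span {algebraMap R L (x ^ n)}

theorem lvl_antitone {m n : ℕ} (h : m ≤ n) : lvl x L n ≤ lvl x L m := by
  rw [lvl, lvl, Ideal.span_singleton_le_span_singleton]
  exact map_dvd _ (pow_dvd_pow x h)

/-- The reduction map. -/
noncomputable def red {m n : ℕ} (h : m ≤ n) : (L ⧸ lvl x L n) →ₐ[R] L ⧸ lvl x L m :=
  Ideal.Quotient.factorₐ R (lvl_antitone x h)

/-- `A → L ⧸ x ^ n L`. -/
noncomputable def qmap (A : Type v) [CommRing A] [Algebra R A] (L : Type w) [CommRing L] [Algebra R L]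
    [Algebra A L] [IsScalarTower R A L] (n : ℕ) : A →ₐ[R] L ⧸ lvl x L n :=
  (Ideal.Quotient.mkₐ R _).comp (IsScalarTower.toAlgHom R A L)

theorem red_qmap {m n : ℕ} (h : m ≤ n) (t : A) : red x h (qmap x A L n t) = qmap x A L m t := rfl

/-- Sections over the punctured spectrum. -/
def Mem (A : Type v) [CommRing A] [Algebra R A] {L : Type w} [CommRing L] [Algebra R L]
    [Algebra A L] [IsScalarTower R A L] (n : ℕ) (e : L ⧸ lvl x L n) : Prop :=
  ∀ i, ∃ (K : ℕ) (t : A), y i ^ K • e = qmap x A L n t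

variable {x y}

theorem Mem.uniform {n : ℕ} {e : L ⧸ lvl x L n} (he : Mem x y A n e) :
    ∃ K, ∀ N ≥ K, ∀ i, ∃ t : A, y i ^ N • e = qmap x A L n t := by
  choose K t ht using he
  refine ⟨Finset.univ.sup K, fun N hN i => ?_⟩
  have hi : K i ≤ N := (Finset.le_sup (Finset.mem_univ i)).trans hN
  refine ⟨y i ^ (N - K i) • t i, ?_⟩
  rw [map_smul, ← ht i, ← mul_smul, ← pow_add, Nat.sub_add_cancel hi]

/-- The algebra of sections over the punctured spectrum. -/
noncomputable def sec (x : R) (y : Fin d → R) (A : Type v) [CommRing A] [Algebra R A] (L : Type w)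
    [CommRing L] [Algebra R L] [Algebra A L] [IsScalarTower R A L] (n : ℕ) :
    Subalgebra R (L ⧸ lvl x L n) where
  carrier := {e | Mem x y A n e}
  mul_mem' := fun {e e'} he he' i => by
    obtain ⟨K, t, ht⟩ := he i
    obtain ⟨K', t', ht'⟩ := he' i
    exact ⟨K + K', t * t', by rw [map_mul, ← ht, ← ht', smul_mul_smul_comm, pow_add]⟩
  add_mem' := fun {e e'} he he' i => by
    obtain ⟨K, t, ht⟩ := he i
    obtain ⟨K', t', ht'⟩ := he' i
    exact ⟨K + K', y i ^ K' • t + y i ^ K • t', by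
      rw [map_add, map_smul, map_smul, ← ht, ← ht', ← mul_smul, ← mul_smul, ← pow_add, ← pow_add,
        add_comm K' K, smul_add]⟩
  algebraMap_mem' := fun r i => ⟨0, algebraMap R A r, by rw [AlgHom.commutes, pow_zero, one_smul]⟩

theorem mem_sec {n : ℕ} {e : L ⧸ lvl x L n} : e ∈ sec x y A L n ↔ Mem x y A n e := Iff.rfl

theorem qmap_mem (n : ℕ) (t : A) : Mem x y A n (qmap x A L n t) := fun _ =>
  ⟨0, t, by rw [pow_zero, one_smul]⟩

variable (hx : Prime x) [hL : IsLocalization (Algebra.algebraMapSubmonoid A (nonDvd hx)) L]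

include hx hL in
theorem isUnit_algebraMap {s : R} (hs : ¬ x ∣ s) : IsUnit (algebraMap R L s) := by
  rw [IsScalarTower.algebraMap_apply R A L]
  exact IsLocalization.map_units L (⟨_, s, hs, rfl⟩ : Algebra.algebraMapSubmonoid A (nonDvd hx))

include hx hL in
theorem isUnit_level {s : R} (hs : ¬ x ∣ s) (n : ℕ) : IsUnit (algebraMap R (L ⧸ lvl x L n) s) :=
  (isUnit_algebraMap (A := A) hx hs).map (Ideal.Quotient.mk (lvl x L n))

include hx hL in
theorem level_cancel {s : R} (hs : ¬ x ∣ s) {n : ℕ} {e e' : L ⧸ lvl x L n} (h : s • e = s • e') :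
    e = e' :=
  (isUnit_level (A := A) hx hs n).mul_left_cancel (by simpa [Algebra.smul_def] using h)

include hx in
theorem qmap_eq_zero (h : Punct R y A) {n : ℕ} {t : A} :
    qmap x A L n t = 0 ↔ ∃ u, t = x ^ n • u := by
  constructor
  · intro ht
    have ht' : algebraMap A L t ∈ lvl x L n := Ideal.Quotient.eq_zero_iff_mem.mp ht
    obtain ⟨c, hc⟩ := Ideal.mem_span_singleton'.mp ht'
    obtain ⟨⟨w, ⟨_, s, hs, rfl⟩⟩, hw⟩ :=
      IsLocalization.surj (Algebra.algebraMapSubmonoid A (nonDvd hx)) c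
    have h1 : algebraMap A L (s • t) = algebraMap A L (x ^ n • w) := by
      simp only [Algebra.smul_def, map_mul] at hw ⊢
      rw [← hc, IsScalarTower.algebraMap_apply R A L, ← hw]
      ring
    obtain ⟨⟨_, s', hs', rfl⟩, hc'⟩ :=
      (IsLocalization.eq_iff_exists (Algebra.algebraMapSubmonoid A (nonDvd hx)) L).mp h1
    have h2 : s • t = x ^ n • w := by
      refine h.cancel (r := s') (fun e => hs' (e ▸ dvd_zero x)) ?_
      simpa [Algebra.smul_def] using hc'
    exact h.dvd_of_mul hx hs n h2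
  · rintro ⟨u, rfl⟩
    rw [map_smul, Algebra.smul_def]
    have : algebraMap R (L ⧸ lvl x L n) (x ^ n) = 0 :=
      Ideal.Quotient.eq_zero_iff_mem.mpr (Ideal.mem_span_singleton_self _)
    rw [this, zero_mul]

include hx in
theorem qmap_eq_iff (h : Punct R y A) {n : ℕ} {t t' : A} :
    qmap x A L n t = qmap x A L n t' ↔ ∃ u, t - t' = x ^ n • u := by
  rw [← sub_eq_zero, ← map_sub, qmap_eq_zero hx h]

include hx in
theorem dvd_of_qmap_eq (h : Punct R y A) {a : ℕ} (ι : A →ₗ[R] (Fin a → R)) {n : ℕ} {t t' : A}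
    (he : qmap x A L n t = qmap x A L n t') (l : Fin a) : x ^ n ∣ ι t l - ι t' l := by
  obtain ⟨u, hu⟩ := (qmap_eq_iff hx h).mp he
  refine ⟨ι u l, ?_⟩
  have := congrFun (congrArg ι hu) l
  simpa using this

include hx in
/-- Coordinates of a section over the punctured spectrum. -/
theorem coords (h : Punct R y A) (hg : Good y x) {a : ℕ} (ι : A →ₗ[R] (Fin a → R)) {n : ℕ}
    {e : L ⧸ lvl x L n} (he : Mem x y A n e) :
    ∃ v : Fin a → R, ∀ j, ¬ x ∣ y j → ∀ (K : ℕ) (t : A), y j ^ K • e = qmap x A L n t →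
      ∀ l, x ^ n ∣ y j ^ K * v l - ι t l := by
  obtain ⟨K₀, hK₀⟩ := he.uniform
  choose t₀ ht₀ using hK₀ K₀ le_rfl
  obtain ⟨p, q, hxp, hp, hq, hpy, hqy⟩ := hg.exists_pair
  have hv : ∀ l, ∃ u, ∀ i, x ^ n ∣ y i ^ K₀ * u - ι (t₀ i) l := fun l => by
    refine sat_mod hx hxp hp hq hpy hqy n K₀ (fun i => ι (t₀ i) l) fun i j => ?_
    have h1 : qmap x A L n (y j ^ K₀ • t₀ i) = qmap x A L n (y i ^ K₀ • t₀ j) := by
      rw [map_smul, map_smul, ← ht₀, ← ht₀, smul_comm]
    simpa using dvd_of_qmap_eq hx h ι h1 l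
  choose v hv using hv
  refine ⟨v, fun j hj K t ht l => ?_⟩
  have h1 : qmap x A L n (y j ^ K₀ • t) = qmap x A L n (y j ^ K • t₀ j) := by
    rw [map_smul, map_smul, ← ht, ← ht₀, smul_comm]
  have h2 := dvd_of_qmap_eq hx h ι h1 l
  simp only [map_smul, Pi.smul_apply, smul_eq_mul] at h2
  refine hx.pow_dvd_of_dvd_mul_left n (fun hd => hj (hx.dvd_of_dvd_pow hd)) (a := y j ^ K₀) ?_
  have := dvd_sub ((hv l j).mul_left (y j ^ K)) h2
  convert this using 1
  ring

include hx in
theorem proj_coords (h : Punct R y A) {k a : ℕ} {i : Fin d} {ι : A →ₗ[R] (Fin a → R)}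
    {π : (Fin a → R) →ₗ[R] A} (hπ : ∀ t, π (ι t) = y i ^ k • t) {n : ℕ} {e : L ⧸ lvl x L n}
    {j : Fin d} (hj : ¬ x ∣ y j) {v : Fin a → R} {K : ℕ} {t : A}
    (ht : y j ^ K • e = qmap x A L n t) (hv : ∀ l, x ^ n ∣ y j ^ K * v l - ι t l) :
    y i ^ k • e = qmap x A L n (π v) := by
  refine level_cancel (A := A) hx (s := y j ^ K) (fun hd => hj (hx.dvd_of_dvd_pow hd)) ?_
  rw [smul_comm, ht, ← map_smul, ← map_smul, qmap_eq_iff hx h]
  choose c hc using hv
  refine ⟨π (-c), ?_⟩
  rw [← hπ, ← map_smul, ← map_smul, ← map_sub]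
  congr 1
  funext l
  have := hc l
  simp only [Pi.sub_apply, Pi.smul_apply, smul_eq_mul, Pi.neg_apply]
  linear_combination -this

include hx in
theorem exists_limit [IsNoetherianRing R] [IsPrecomplete (Ideal.span {x}) R] (h : Punct R y A)
    (hg : Good y x) (e : ∀ n, L ⧸ lvl x L n) (he : ∀ n, Mem x y A n (e n))
    (hc : ∀ n, red x (Nat.le_succ n) (e (n + 1)) = e n) :
    ∃ t : A, ∀ n, qmap x A L n t = e n := by
  obtain ⟨j, hj⟩ := hg.exists_not_dvd
  obtain ⟨k, -, hk⟩ := h.proj
  have hi : ∀ i, ∃ s : A, ∀ n, y i ^ k • e n = qmap x A L n s := by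
    intro i
    obtain ⟨a, ι, π, hπ⟩ := hk i
    choose v hv using fun n => coords hx h hg ι (he n)
    choose K s hs using fun n => he n j
    have hstep : ∀ n l, x ^ n ∣ v (n + 1) l - v n l := by
      intro n l
      have h1 : y j ^ K (n + 1) • e n = qmap x A L n (s (n + 1)) := by
        rw [← hc n, ← map_smul, hs (n + 1), red_qmap]
      have h2 := (hv (n + 1) j hj _ _ (hs (n + 1)) l)
      have h3 := hv n j hj _ _ h1 l
      refine hx.pow_dvd_of_dvd_mul_left n (fun hd => hj (hx.dvd_of_dvd_pow hd)) (a := y j ^ K (n + 1)) ?_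
      have := dvd_sub ((pow_dvd_pow x (Nat.le_succ n)).trans h2) h3
      convert this using 1
      ring
    have hlim : ∀ l, ∃ w, ∀ n, x ^ n ∣ w - v n l := by
      intro l
      obtain ⟨w, hw⟩ := IsPrecomplete.prec (inferInstance : IsPrecomplete (Ideal.span {x}) R)
        (f := fun n => v n l) (fun {m n} hmn => by
          rw [SModEq.sub_mem, smul_eq_mul, Ideal.mul_top, Ideal.span_singleton_pow,
            Ideal.mem_span_singleton]
          induction hmn with
          | refl => simp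
          | @step n hmn ih =>
            have := dvd_sub ih ((pow_dvd_pow x hmn).trans (hstep n l))
            convert this using 1
            ring)
      refine ⟨w, fun n => ?_⟩
      have := hw n
      rw [SModEq.sub_mem, smul_eq_mul, Ideal.mul_top, Ideal.span_singleton_pow,
        Ideal.mem_span_singleton] at this
      rw [← neg_sub]; exact this.neg_right
    choose w hw using hlim
    refine ⟨π w, fun n => proj_coords hx h hπ hj (hs n) fun l => ?_⟩
    have := dvd_add ((hw l n).mul_left (y j ^ K n)) (hv n j hj _ _ (hs n) l)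
    convert this using 1
    ring
  choose s hs using hi
  obtain ⟨u, hu⟩ := h.sat k s fun i l => by
    refine sub_eq_zero.mp (h.eq_zero_of_forall_dvd hx.not_isUnit fun n => ?_)
    rw [← qmap_eq_iff (L := L) hx h, map_smul, map_smul, ← hs, ← hs, smul_comm]
  refine ⟨u, fun n => level_cancel (A := A) hx (s := y j ^ k) (fun hd => hj (hx.dvd_of_dvd_pow hd)) ?_⟩
  rw [← map_smul, hu, hs]

include hx in
theorem eq_of_forall_qmap_eq [IsNoetherianRing R] (h : Punct R y A) {t t' : A}
    (he : ∀ n, qmap x A L n t = qmap x A L n t') : t = t' :=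
  sub_eq_zero.mp (h.eq_zero_of_forall_dvd hx.not_isUnit fun n => (qmap_eq_iff hx h).mp (he n))

end GrothLib.Purity
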