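import Groth.Agent.Lib.Purity.Main
import Groth.Agent.Lib.NormalSerre.AssPrincipal
import Groth.Agent.Lib.RegUFD.Basic

/-!
# Zariski–Nagata purity for finite extensions of regular local rings
-/

set_option linter.style.haveILetI false
set_option linter.unusedSectionVars false

universe u

open IsLocalRing TensorProduct

namespace GrothLib.Purity

variable {R : Type u} [CommRing R] [IsRegularLocalRing R] {A : Type u} [CommRing A] [IsDomain A]
  [Algebra R A] [Module.Finite R A] [FaithfulSMul R A]

/-- Maximal ideals of a finite extension domain of a regular local ring have full height. -/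
theorem two_le_height_of_isMaximal (hdim : 2 ≤ ringKrullDim R) (P : Ideal A) [P.IsPrime]
    [P.LiesOver (maximalIdeal R)] : 2 ≤ P.height := by
  haveI := GrothLib.CMFree.isDomain_of_isRegularLocalRing R
  haveI := GrothLib.RegUFD.ufd_of_isRegularLocalRing R
  haveI : Algebra.IsIntegral R A := inferInstance
  haveI : IsNoetherianRing A := IsNoetherianRing.of_finite R A
  rw [Ideal.height_eq_height_add_of_liesOver_of_hasGoingDown (maximalIdeal R) P]
  rw [← IsLocalRing.maximalIdeal_height_eq_ringKrullDim] at hdim
  exact (WithBot.coe_le_coe.mp hdim).trans le_self_add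

variable [IsIntegrallyClosed A]

/-- A normal finite extension which is étale off the closed point is saturated. -/
theorem punct_of_normal (hdim : 2 ≤ ringKrullDim R) {d : ℕ} {y : Fin d → R}
    (hy : maximalIdeal R ≤ (Ideal.span (Set.range y)).radical)
    (het : ∀ i, Algebra.Etale R (Localization.Away (algebraMap R A (y i)))) : Punct R y A := by
  classical
  haveI := GrothLib.CMFree.isDomain_of_isRegularLocalRing R
  haveI : IsNoetherianRing A := IsNoetherianRing.of_finite R A
  have hinj := FaithfulSMul.algebraMap_injective R A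
  have hcancel : ∀ {r : R} {u w : A}, r ≠ 0 → r • u = r • w → u = w := fun hr h => by
    rw [Algebra.smul_def, Algebra.smul_def] at h
    exact mul_left_cancel₀ ((map_ne_zero_iff _ hinj).mpr hr) h
  obtain ⟨j, hj⟩ : ∃ j, y j ≠ 0 := by
    by_contra! h
    have h0 : maximalIdeal R ≤ (⊥ : Ideal R).radical := by
      refine hy.trans (Ideal.radical_mono ?_)
      rw [Ideal.span_le]
      rintro _ ⟨i, rfl⟩
      exact h i
    rw [Ideal.IsRadical.radical (Ideal.IsPrime.isRadical (Ideal.isPrime_bot)), le_bot_iff] at h0
    rw [← IsLocalRing.maximalIdeal_height_eq_ringKrullDim, h0, Ideal.height_bot] at hdim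
    exact absurd (WithBot.coe_le_coe.mp hdim) (by simp)
  refine ⟨inferInstance, fun k u hu => hcancel (pow_ne_zero k hj) (by rw [hu j, smul_zero]),
    fun k t ht => ?_, ?_, het⟩
  · let K := FractionRing A
    have hj' : algebraMap A K (algebraMap R A (y j ^ k)) ≠ 0 :=
      (map_ne_zero_iff _ (IsFractionRing.injective A K)).mpr ((map_ne_zero_iff _ hinj).mpr (pow_ne_zero k hj))
    obtain ⟨u, hu⟩ := GrothLib.NormalSerre.mem_range_of_forall_height_one
      (algebraMap A K (t j) / algebraMap A K (algebraMap R A (y j ^ k))) fun P hP hP1 => by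
        obtain ⟨i, hi⟩ : ∃ i, algebraMap R A (y i) ∉ P := by
          by_contra! h
          haveI : P.LiesOver (maximalIdeal R) := by
            refine ⟨((maximalIdeal.isMaximal R).eq_of_le ?_ ?_)⟩
            · exact (Ideal.IsPrime.comap _).ne_top
            · refine hy.trans ((Ideal.IsPrime.radical_le_iff (Ideal.IsPrime.comap _)).mpr ?_)
              rw [Ideal.span_le]
              rintro _ ⟨i, rfl⟩
              exact h i
          have h2 := two_le_height_of_isMaximal hdim P
          rw [hP1] at h2
          exact absurd h2 (by norm_num)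
        refine ⟨t i, algebraMap R A (y i ^ k), fun hc => hi ?_, ?_⟩
        · rw [map_pow] at hc
          exact hP.mem_of_pow_mem k hc
        · rw [div_mul_eq_mul_div, eq_div_iff hj', ← map_mul, ← map_mul, mul_comm (t j), mul_comm (t i),
            ← Algebra.smul_def, ← Algebra.smul_def, ht i j]
    refine ⟨u, fun i => hcancel (pow_ne_zero k hj) ?_⟩
    have hu' : y j ^ k • u = t j := by
      refine IsFractionRing.injective A K ?_
      rw [Algebra.smul_def, map_mul, hu, mul_div_cancel₀ _ hj']
    rw [smul_comm, hu', ht i j]
  · obtain ⟨a, π, hπ⟩ := Module.Finite.exists_fin' R A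
    have hi : ∀ i, ∃ (k : ℕ) (ι : A →ₗ[R] (Fin a → R)), ∀ t, π (ι t) = y i ^ k • t := by
      intro i
      by_cases hyi : y i = 0
      · exact ⟨1, 0, fun t => by simp [hyi]⟩
      haveI := het i
      let Ry := Localization.Away (y i)
      let yA := algebraMap R A (y i)
      let T := Ry ⊗[R] A
      letI : Algebra A T := Algebra.TensorProduct.rightAlgebra
      haveI : IsLocalization.Away yA T := IsLocalization.Away.tensorRight (y i) Ry
      let e : Localization.Away yA ≃ₐ[A] T := IsLocalization.algEquiv (Submonoid.powers yA) _ _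
      haveI : Algebra.Etale R T := Algebra.Etale.of_equiv (e.restrictScalars R)
      haveI : Module.Flat Ry T :=
        (Module.flat_iff_of_isLocalization (Ry) (Submonoid.powers (y i)) T).mpr inferInstance
      haveI : IsNoetherianRing Ry := IsLocalization.isNoetherianRing (Submonoid.powers (y i)) Ry inferInstance
      haveI : Module.FinitePresentation Ry T := Module.finitePresentation_of_finite Ry T
      haveI : Module.Projective Ry T := Module.Flat.projective_of_finitePresentation
      obtain ⟨σ, hσ⟩ := Module.projective_lifting_property (π.baseChange Ry) LinearMap.id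
        (LinearMap.lTensor_surjective Ry hπ)
      let f : A →ₗ[R] Ry ⊗[R] (Fin a → R) :=
        (σ.restrictScalars R).comp (TensorProduct.mk R Ry A 1)
      haveI : Module.FinitePresentation R A := Module.finitePresentation_of_finite R A
      obtain ⟨ι, ⟨s, k, hs⟩, hι⟩ := Module.FinitePresentation.exists_lift_of_isLocalizedModule
        (Submonoid.powers (y i)) (TensorProduct.mk R Ry (Fin a → R) 1) f
      refine ⟨k, ι, fun t => ?_⟩
      have h1 : (1 : Ry) ⊗ₜ[R] π (ι t) = (1 : Ry) ⊗ₜ[R] (y i ^ k • t) := by
        have h2 : (1 : Ry) ⊗ₜ[R] ι t = s • f t := LinearMap.congr_fun hι t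
        have h3 := congrArg (π.baseChange Ry) h2
        rw [LinearMap.baseChange_tmul] at h3
        rw [h3, LinearMap.map_smul_of_tower, TensorProduct.tmul_smul, ← hs]
        congr 1
        exact LinearMap.congr_fun hσ _
      obtain ⟨⟨_, N, rfl⟩, hN⟩ := (IsLocalizedModule.eq_iff_exists (Submonoid.powers (y i))
        (TensorProduct.mk R Ry A 1)).mp h1
      exact hcancel (pow_ne_zero N hyi) hN
    choose k ι hι using hi
    set N := Finset.univ.sup k + 1
    refine ⟨N, by omega, fun i => ⟨a, y i ^ (N - k i) • ι i, π, fun t => ?_⟩⟩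
    have : k i ≤ N := (Finset.le_sup (Finset.mem_univ i)).trans (by omega)
    rw [LinearMap.smul_apply, map_smul, hι, ← mul_smul, ← pow_add, Nat.sub_add_cancel this]

theorem isEtaleAt_of_localization {P : Ideal A} [P.IsPrime] (p : Ideal R) [p.IsPrime] [P.LiesOver p]
    (A' : Type u) [CommRing A'] [Algebra A A'] [Algebra R A'] [IsScalarTower R A A']
    [IsLocalization (Algebra.algebraMapSubmonoid A p.primeCompl) A']
    [Algebra (Localization.AtPrime p) A'] [IsScalarTower R (Localization.AtPrime p) A']
    [Algebra.FormallyEtale (Localization.AtPrime p) A'] : Algebra.IsEtaleAt R P := by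
  haveI : Algebra.FormallyEtale R (Localization.AtPrime p) :=
    Algebra.FormallyEtale.of_isLocalization p.primeCompl
  haveI : Algebra.FormallyEtale R A' := Algebra.FormallyEtale.comp R (Localization.AtPrime p) A'
  have hle : Algebra.algebraMapSubmonoid A p.primeCompl ≤ P.primeCompl := by
    rintro _ ⟨r, hr, rfl⟩ hrP
    refine hr ?_
    rw [(Ideal.LiesOver.over : p = P.under R)]
    exact hrP
  letI : Algebra A' (Localization.AtPrime P) :=
    IsLocalization.localizationAlgebraOfSubmonoidLe _ _ _ _ hle
  haveI : IsScalarTower A A' (Localization.AtPrime P) :=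
    IsLocalization.localization_isScalarTower_of_submonoid_le _ _ _ _ hle
  haveI : IsScalarTower R A' (Localization.AtPrime P) := IsScalarTower.of_algebraMap_eq fun r => by
    rw [IsScalarTower.algebraMap_apply R A A', ← IsScalarTower.algebraMap_apply A A',
      ← IsScalarTower.algebraMap_apply R A]
  haveI := IsLocalization.isLocalization_of_submonoid_le A' (Localization.AtPrime P) _ _ hle
  haveI : Algebra.FormallyEtale A' (Localization.AtPrime P) :=
    Algebra.FormallyEtale.of_isLocalization (P.primeCompl.map (algebraMap A A'))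
  exact Algebra.FormallyEtale.comp R A' (Localization.AtPrime P)

end GrothLib.Purity

namespace GrothLib.Purity

/-- **Zariski–Nagata purity**: a normal finite extension of a regular local ring which is unramified
in codimension at most one is étale. -/
theorem purity_of_finite_normal : ∀ (n : ℕ) (R : Type u) [CommRing R] [IsRegularLocalRing R],
    ringKrullDim R ≤ (n : WithBot ℕ∞) → ∀ (A : Type u) [CommRing A] [IsDomain A] [IsIntegrallyClosed A]
    [Algebra R A] [Module.Finite R A] [FaithfulSMul R A],
    (∀ (Q : Ideal A) [Q.IsPrime], Q.height ≤ 1 → Algebra.IsUnramifiedAt R Q) → Algebra.Etale R A := by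
  intro n
  induction n using Nat.strong_induction_on with
  | _ n ih =>
  intro R _ _ hn A _ _ _ _ _ _ hur
  haveI := GrothLib.CMFree.isDomain_of_isRegularLocalRing R
  haveI : IsNoetherianRing A := IsNoetherianRing.of_finite R A
  haveI : Algebra.FinitePresentation R A := Algebra.FinitePresentation.of_finiteType.mp inferInstance
  have hinj := FaithfulSMul.algebraMap_injective R A
  obtain ⟨m, hm, -⟩ := GrothLib.RegLoc.exists_dim_eq (R := R)
  by_cases h2 : m ≤ 1
  · haveI : Algebra.FormallyUnramified R A := Algebra.formallyUnramified_iff_forall.mpr fun Q => by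
      refine hur Q.asIdeal (WithBot.coe_le_coe.mp ?_)
      refine (Ideal.height_le_ringKrullDim_of_isPrime).trans ?_
      refine (Order.krullDim_le_of_strictMono (PrimeSpectrum.comap (algebraMap R A)) fun I J hIJ => ?_).trans
        (le_of_eq_of_le hm (by exact_mod_cast h2))
      obtain ⟨hle, x, hxJ, hxI⟩ := SetLike.lt_iff_le_and_exists.mp (show I.asIdeal < J.asIdeal from hIJ)
      exact Ideal.comap_lt_comap_of_integral_mem_sdiff hle ⟨hxJ, hxI⟩ (Algebra.IsIntegral.isIntegral x)
    haveI : Module.Free R A := by
      rcases Nat.le_one_iff_eq_zero_or_eq_one.mp h2 with rfl | rfl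
      · haveI : Ring.KrullDimLE 0 R := Ring.krullDimLE_iff.mpr (by rw [hm])
        haveI := (Ring.KrullDimLE.isField_of_isDomain : IsField R)
        letI := ‹IsField R›.toField
        exact Module.Free.of_divisionRing R A
      · obtain ⟨_, hdvr⟩ := GrothLib.AdicExtra.exists_dvr_iff_regular_dim_one.mpr
          ⟨‹IsRegularLocalRing R›, by rw [hm]; rfl⟩
        haveI := hdvr
        haveI : Module.IsTorsionFree R A := Module.isTorsionFree_iff_faithfulSMul.mpr inferInstance
        infer_instance
    exact Algebra.Etale.of_formallyUnramified_of_flat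
  push Not at h2
  have hdim : 2 ≤ ringKrullDim R := by rw [hm]; exact_mod_cast h2
  obtain ⟨d, y, hy⟩ : ∃ (d : ℕ) (y : Fin d → R), Ideal.span (Set.range y) = maximalIdeal R :=
    Submodule.fg_iff_exists_fin_generating_family.mp (IsNoetherian.noetherian (maximalIdeal R))
  have hy' : maximalIdeal R ≤ (Ideal.span (Set.range y)).radical := hy ▸ Ideal.le_radical
  refine etale_of_punct hdim hy' (punct_of_normal hdim hy' fun i => ?_)
  rw [← Algebra.basicOpen_subset_etaleLocus_iff_etale]
  intro P hP
  set p := P.asIdeal.under R
  have hpm : p ≠ maximalIdeal R := fun e => hP (show algebraMap R A (y i) ∈ P.asIdeal from by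
    show y i ∈ p
    rw [e, ← hy]
    exact Ideal.subset_span ⟨i, rfl⟩)
  let Rp := Localization.AtPrime p
  haveI : IsRegularLocalRing Rp := GrothLib.Serre.isRegularLocalRing_localization R p _
  have hplt : p.height < (m : ℕ∞) := by
    have h1 := Ideal.height_strict_mono_of_isPrime_of_isPrime
      (lt_of_le_of_ne (le_maximalIdeal Ideal.IsPrime.ne_top') hpm)
    refine h1.trans_le ?_
    have h3 := IsLocalRing.maximalIdeal_height_eq_ringKrullDim (R := R)
    rw [hm] at h3
    exact (WithBot.coe_inj.mp h3).le
  obtain ⟨k, hk⟩ : ∃ k : ℕ, p.height = k := ENat.ne_top_iff_exists.mp hplt.ne_top |>.imp fun _ h => h.symm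
  have hkn : k < n := by
    have h1 : k < m := by rw [hk] at hplt; exact_mod_cast hplt
    have h3 : m ≤ n := by rw [hm] at hn; exact_mod_cast hn
    omega
  let M := Algebra.algebraMapSubmonoid A p.primeCompl
  have hM : M ≤ nonZeroDivisors A := by
    rintro _ ⟨r, hr, rfl⟩
    exact mem_nonZeroDivisors_of_ne_zero ((map_ne_zero_iff _ hinj).mpr fun h => hr (h ▸ p.zero_mem))
  let A' := Localization M
  haveI : IsLocalization (p.primeCompl.map (algebraMap R A)) A' := inferInstanceAs (IsLocalization M A')
  haveI : IsDomain A' := IsLocalization.isDomain_localization hM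
  haveI : IsIntegrallyClosed A' := isIntegrallyClosed_of_isLocalization A' M hM
  letI : Algebra Rp A' := localizationAlgebra p.primeCompl A
  haveI : IsScalarTower R Rp A' := IsScalarTower.of_algebraMap_eq fun r => by
    rw [IsScalarTower.algebraMap_apply R A A']
    exact (IsLocalization.map_eq _ r).symm
  haveI : Module.Finite Rp A' := Module.Finite.of_isLocalization R A p.primeCompl
  haveI : FaithfulSMul Rp A' := (faithfulSMul_iff_algebraMap_injective _ _).mpr (by
    refine IsLocalization.map_injective_of_injective _ _ _ hinj)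
  haveI : Algebra.Etale Rp A' := by
    refine ih k hkn Rp ?_ A' fun Q _ hQ => ?_
    · rw [IsLocalization.AtPrime.ringKrullDim_eq_height p Rp, hk]; exact le_rfl
    · let Q₀ := Q.under A
      haveI : Q.LiesOver Q₀ := ⟨rfl⟩
      have hQ₀ : Q₀.height ≤ 1 := by
        rwa [IsLocalization.height_under M Q]
      haveI := hur Q₀ hQ₀
      haveI : Algebra.FormallyUnramified A A' := Algebra.FormallyUnramified.of_isLocalization M
      haveI : Algebra.IsUnramifiedAt A Q := inferInstanceAs (Algebra.FormallyUnramified A (Localization.AtPrime Q))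
      haveI : Algebra.IsUnramifiedAt R Q := Algebra.IsUnramifiedAt.comp Q₀ Q
      exact Algebra.IsUnramifiedAt.of_restrictScalars R Q
  exact isEtaleAt_of_localization (P := P.asIdeal) p A'

end GrothLib.Purity
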