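import Groth.Agent.Lib.Purity.Layer

/-!
# Purity: the sections over the punctured hyperplane
-/

set_option linter.style.haveILetI false
set_option linter.unusedSectionVars false

universe u

open TensorProduct

namespace GrothLib.Purity

variable {R : Type u} [CommRing R] [IsDomain R] [IsNoetherianRing R] {x : R} {d : ℕ} {y : Fin d → R}
  {A : Type u} [CommRing A] [Algebra R A] {L : Type u} [CommRing L] [Algebra R L] [Algebra A L]
  [IsScalarTower R A L] (hx : Prime x)
  [hL : IsLocalization (Algebra.algebraMapSubmonoid A (nonDvd hx)) L]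

theorem algebraMap_x_eq_zero : algebraMap R (L ⧸ lvl x L 1) x = 0 :=
  Ideal.Quotient.eq_zero_iff_mem.mpr (by
    rw [lvl, pow_one]
    exact Ideal.mem_span_singleton_self _)

theorem smul_eq_zero_of_dvd {s : R} (hs : x ∣ s) (e : L ⧸ lvl x L 1) : s • e = 0 := by
  obtain ⟨c, rfl⟩ := hs
  rw [Algebra.smul_def, map_mul, algebraMap_x_eq_zero, zero_mul, zero_mul]

include hx in
theorem finite_sec (h : Punct R y A) (hg : Good y x) :
    Module.Finite R (sec x y A L 1) := by
  haveI := h.finite
  obtain ⟨j, hj⟩ := hg.exists_not_dvd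
  obtain ⟨k, -, hk⟩ := h.proj
  obtain ⟨a, ι, π, hπ⟩ := hk j
  set Q := LinearMap.range (qmap x A L 1).toLinearMap
  haveI : Module.Finite R Q := Module.Finite.range _
  let g : sec x y A L 1 →ₗ[R] L ⧸ lvl x L 1 :=
    (LinearMap.lsmul R (L ⧸ lvl x L 1) (y j ^ k)).comp (sec x y A L 1).val.toLinearMap
  refine Module.Finite.of_injective (g.codRestrict Q fun c => ?_) fun c c' hcc => ?_
  · obtain ⟨v, hv⟩ := coords hx h hg ι c.2
    obtain ⟨K, t, ht⟩ := c.2 j
    exact ⟨π v, (proj_coords hx h hπ hj ht (hv j hj K t ht)).symm⟩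
  · refine Subtype.ext (level_cancel (A := A) hx (s := y j ^ k) (fun hd => hj (hx.dvd_of_dvd_pow hd)) ?_)
    exact congrArg Subtype.val hcc

include hx in
theorem punct_sec (h : Punct R y A) (hg : Good y x)
    [IsDomain (R ⧸ Ideal.span {x})]
    [Algebra (R ⧸ Ideal.span {x}) (sec x y A L 1)]
    [IsScalarTower R (R ⧸ Ideal.span {x}) (sec x y A L 1)] :
    Punct (R ⧸ Ideal.span {x}) (fun i => Ideal.Quotient.mk (Ideal.span {x}) (y i)) (sec x y A L 1) := by
  classical
  set mk : R →+* (R ⧸ Ideal.span {x}) := Ideal.Quotient.mk (Ideal.span {x})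
  obtain ⟨j, hj⟩ := hg.exists_not_dvd
  haveI := finite_sec (L := L) hx h hg
  have hsmul : ∀ (s : R) (c : (sec x y A L 1)), mk s • c = s • c := fun s c => by
    rw [show mk s = algebraMap R (R ⧸ Ideal.span {x}) s from rfl, algebraMap_smul]
  have hjp : ∀ k, ¬ x ∣ y j ^ k := fun k hd => hj (hx.dvd_of_dvd_pow hd)
  refine ⟨Module.Finite.of_restrictScalars_finite R (R ⧸ Ideal.span {x}) (sec x y A L 1), fun k u hu => ?_, fun k t ht => ?_, ?_, ?_⟩
  · have h1 := hu j
    simp only [← map_pow, hsmul] at h1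
    refine Subtype.ext (level_cancel (A := A) hx (s := y j ^ k) (hjp k) ?_)
    simpa using congrArg Subtype.val h1
  · simp only [← map_pow, hsmul] at ht ⊢
    obtain ⟨e, he⟩ := isUnit_level (A := A) (L := L) hx (hjp k) 1
    set w : L ⧸ lvl x L 1 := (↑e⁻¹ : L ⧸ lvl x L 1) * (t j).1
    have hw : ∀ i, y i ^ k • w = (t i).1 := fun i => by
      refine level_cancel (A := A) hx (s := y j ^ k) (hjp k) ?_
      have h1 : y j ^ k • w = (t j).1 := by
        rw [Algebra.smul_def, ← he, Units.mul_inv_cancel_left]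
      rw [smul_comm, h1]
      exact congrArg Subtype.val (ht j i)
    refine ⟨⟨w, fun i => ?_⟩, fun i => Subtype.ext (hw i)⟩
    obtain ⟨K, s, hs⟩ := (t i).2 i
    exact ⟨K + k, s, by rw [pow_add, mul_smul, hw, hs]⟩
  · obtain ⟨k, hk0, hk⟩ := h.proj
    refine ⟨k + k, by omega, fun i => ?_⟩
    by_cases hi : x ∣ y i
    · refine ⟨0, 0, 0, fun c => ?_⟩
      rw [LinearMap.zero_apply, ← map_pow, hsmul]
      exact Subtype.ext (by
        simpa using (smul_eq_zero_of_dvd (L := L) (hi.trans (dvd_pow_self _ (by omega : k + k ≠ 0))) c.1).symm)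
    obtain ⟨a, ι, π, hπ⟩ := hk i
    have hs : ∀ c : (sec x y A L 1), ∃ t, y i ^ k • c.1 = qmap x A L 1 t := fun c => by
      obtain ⟨v, hv⟩ := coords hx h hg ι c.2
      obtain ⟨K, t, ht⟩ := c.2 i
      exact ⟨π v, proj_coords hx h hπ hi ht (hv i hi K t ht)⟩
    choose s hs using hs
    have hwd : ∀ t t', qmap x A L 1 t = qmap x A L 1 t' → (fun l => mk (ι t l)) = fun l => mk (ι t' l) :=
      fun t t' htt => funext fun l => by
        rw [Ideal.Quotient.eq, Ideal.mem_span_singleton]
        simpa using dvd_of_qmap_eq hx h ι htt l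
    have hR : ∀ (r : R) (c : (sec x y A L 1)), (fun l => mk (ι (s (mk r • c)) l)) = fun l => mk r * mk (ι (s c) l) := by
      intro r c
      rw [hwd (s (mk r • c)) (r • s c) (by rw [← hs, map_smul, ← hs, hsmul]; exact smul_comm _ _ _)]
      funext l
      simp
    let ι₀ : (sec x y A L 1) →ₗ[(R ⧸ Ideal.span {x})] (Fin a → (R ⧸ Ideal.span {x})) :=
      { toFun := fun c l => mk (ι (s c) l)
        map_add' := fun c c' => by
          rw [hwd (s (c + c')) (s c + s c') (by rw [← hs, map_add, ← hs, ← hs]; exact smul_add _ _ _)]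
          funext l
          simp
        map_smul' := fun r c => by
          obtain ⟨r, rfl⟩ := Ideal.Quotient.mk_surjective r
          exact hR r c }
    let qC : A →ₗ[R] (sec x y A L 1) := (qmap x A L 1).toLinearMap.codRestrict (sec x y A L 1).toSubmodule fun t => qmap_mem 1 t
    let π₀ : (Fin a → (R ⧸ Ideal.span {x})) →ₗ[(R ⧸ Ideal.span {x})] (sec x y A L 1) := Fintype.linearCombination (R ⧸ Ideal.span {x}) fun l => qC (π (Pi.single l 1))
    refine ⟨a, ι₀, π₀, fun c => ?_⟩
    have hπ₀ : ∀ w : Fin a → R, π₀ (fun l => mk (w l)) = qC (π w) := fun w => by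
      conv_rhs => rw [pi_eq_sum_univ' w, map_sum, map_sum]
      simp only [π₀, Fintype.linearCombination_apply, hsmul, map_smul]
    rw [← map_pow, hsmul]
    refine (hπ₀ _).trans (Subtype.ext ?_)
    show qmap x A L 1 (π (ι (s c))) = y i ^ (k + k) • c.1
    rw [hπ, map_smul, ← hs, ← mul_smul, ← pow_add]
  · intro i
    haveI := h.etale i
    set yA := algebraMap R A (y i)
    let Ay := Localization.Away yA
    let yC := algebraMap (R ⧸ Ideal.span {x}) (sec x y A L 1) (mk (y i))
    let Cy := Localization.Away yC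
    let qC : A →ₐ[R] (sec x y A L 1) := (qmap x A L 1).codRestrict (sec x y A L 1) fun t => qmap_mem 1 t
    have hyC : qC yA = yC := by
      rw [AlgHom.commutes, IsScalarTower.algebraMap_apply R (R ⧸ Ideal.span {x}) (sec x y A L 1)]
      rfl
    let F₀ : A →ₐ[R] Cy := (IsScalarTower.toAlgHom R (sec x y A L 1) Cy).comp qC
    have hunit : IsUnit (F₀ yA) := by
      show IsUnit (algebraMap (sec x y A L 1) Cy (qC yA))
      rw [hyC]
      exact IsLocalization.Away.algebraMap_isUnit yC
    let F : Ay →ₐ[R] Cy := IsLocalization.Away.liftAlgHom yA (f := F₀) hunit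
    have hF : ∀ t, F (algebraMap A Ay t) = algebraMap (sec x y A L 1) Cy (qC t) := fun t =>
      IsLocalization.Away.lift_eq yA (g := F₀.toRingHom) hunit t
    set J := (Ideal.span {x}).map (algebraMap R Ay)
    have hxC : algebraMap R (sec x y A L 1) x = 0 := Subtype.ext algebraMap_x_eq_zero
    have hJ : ∀ z ∈ J, F z = 0 := by
      intro z hz
      rw [show J = Ideal.span {algebraMap R Ay x} by simp [J, Ideal.map_span],
        Ideal.mem_span_singleton] at hz
      obtain ⟨w, rfl⟩ := hz
      rw [map_mul, AlgHom.commutes, IsScalarTower.algebraMap_apply R (sec x y A L 1) Cy, hxC, map_zero, zero_mul]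
    let G : Ay ⧸ J →ₐ[R] Cy := Ideal.Quotient.liftₐ J F hJ
    have hbij : Function.Bijective G := by
      constructor
      · rw [injective_iff_map_eq_zero]
        intro z hz
        obtain ⟨z, rfl⟩ := Ideal.Quotient.mk_surjective z
        change F z = 0 at hz
        obtain ⟨N, t, ht⟩ := IsLocalization.Away.surj yA z
        have h0 : algebraMap (sec x y A L 1) Cy (qC t) = 0 := by
          rw [← hF, ← ht, map_mul, hz, zero_mul]
        obtain ⟨⟨_, M, rfl⟩, hM⟩ := (IsLocalization.map_eq_zero_iff (Submonoid.powers yC) Cy _).mp h0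
        have h1 : qmap x A L 1 (yA ^ M * t) = 0 := by
          have h2 := congrArg Subtype.val hM
          simp only [← hyC, ← map_pow, ← map_mul] at h2
          exact h2
        obtain ⟨u, hu⟩ := (qmap_eq_zero hx h).mp h1
        rw [Ideal.Quotient.eq_zero_iff_mem]
        refine (Ideal.mul_unit_mem_iff_mem _
          ((IsLocalization.Away.algebraMap_isUnit (S := Ay) yA).pow (N + M))).mp ?_
        rw [pow_add, ← mul_assoc, ht, ← map_pow, ← map_mul, mul_comm t, hu, pow_one, Algebra.smul_def,
          map_mul, ← IsScalarTower.algebraMap_apply]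
        exact Ideal.mul_mem_right _ _ (Ideal.mem_map_of_mem _ (Ideal.mem_span_singleton_self x))
      · intro z
        obtain ⟨N, c, hc⟩ := IsLocalization.Away.surj yC z
        obtain ⟨K, t, ht⟩ := c.2 i
        obtain ⟨e, he⟩ := (IsLocalization.Away.algebraMap_isUnit (S := Ay) yA).pow (K + N)
        refine ⟨Ideal.Quotient.mk J (algebraMap A Ay t * ↑e⁻¹), ?_⟩
        show F (algebraMap A Ay t * ↑e⁻¹) = z
        have hu : F (↑e : Ay) = algebraMap (sec x y A L 1) Cy yC ^ (K + N) := by
          rw [he, map_pow, hF, hyC]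
        refine (IsUnit.mul_left_inj (e.isUnit.map F)).mp ?_
        rw [← map_mul, mul_assoc, Units.inv_mul, mul_one, hF, hu, pow_add, mul_left_comm, hc, ← map_pow,
          ← map_mul]
        congr 1
        refine Subtype.ext ?_
        show qmap x A L 1 t = _
        rw [← ht, Algebra.smul_def, ← hyC, AlgHom.commutes, ← map_pow]
        rfl
    haveI hD : Algebra.Etale (R ⧸ Ideal.span {x}) (Ay ⧸ J) := Algebra.Etale.of_equiv
      (Algebra.TensorProduct.quotIdealMapEquivQuotTensor Ay (Ideal.span {x})).symm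
    exact Algebra.Etale.of_equiv
      (AlgEquiv.extendScalarsOfSurjective Ideal.Quotient.mk_surjective (AlgEquiv.ofBijective G hbij) :
        (Ay ⧸ J) ≃ₐ[(R ⧸ Ideal.span {x})] Cy)

end GrothLib.Purity
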