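import Groth.Agent.Lib.Purity.Sec

/-!
# Purity: lifting from the punctured hyperplane
-/

set_option linter.style.haveILetI false
set_option linter.unusedSectionVars false

universe u

namespace GrothLib.Purity

variable {R : Type u} [CommRing R] [IsDomain R] [IsNoetherianRing R] {x : R} {d : ℕ} {y : Fin d → R}
  {A : Type u} [CommRing A] [Algebra R A] {L : Type u} [CommRing L] [Algebra R L] [Algebra A L]
  [IsScalarTower R A L] (hx : Prime x)
  [hL : IsLocalization (Algebra.algebraMapSubmonoid A (nonDvd hx)) L]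
  {T : Type u} [CommRing T] [Algebra R T]

theorem red_surjective {m n : ℕ} (h : m ≤ n) :
    Function.Surjective (red x h : (L ⧸ lvl x L n) →ₐ[R] L ⧸ lvl x L m) :=
  Ideal.Quotient.factor_surjective (lvl_antitone x h)

theorem red_red {l m n : ℕ} (h : l ≤ m) (h' : m ≤ n) (e : L ⧸ lvl x L n) :
    red x h (red x h' e) = red x (h.trans h') e := by
  obtain ⟨e, rfl⟩ := Ideal.Quotient.mk_surjective e
  rfl

theorem isNilpotent_ker_red (n : ℕ) :
    IsNilpotent (RingHom.ker ((red x (Nat.le_add_left 1 n) : (L ⧸ lvl x L (n + 1)) →ₐ[R] L ⧸ lvl x L 1) :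
      (L ⧸ lvl x L (n + 1)) →+* L ⧸ lvl x L 1)) := by
  refine ⟨n + 1, ?_⟩
  have hle : RingHom.ker ((red x (Nat.le_add_left 1 n) : (L ⧸ lvl x L (n + 1)) →ₐ[R] L ⧸ lvl x L 1) :
      (L ⧸ lvl x L (n + 1)) →+* L ⧸ lvl x L 1) ≤ (lvl x L 1).map (Ideal.Quotient.mk (lvl x L (n + 1))) := by
    intro e he
    obtain ⟨e, rfl⟩ := Ideal.Quotient.mk_surjective e
    exact Ideal.mem_map_of_mem _ (Ideal.Quotient.eq_zero_iff_mem.mp he)
  rw [Ideal.zero_eq_bot, eq_bot_iff]
  refine (Ideal.pow_right_mono hle (n + 1)).trans ?_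
  rw [← Ideal.map_pow, show lvl x L 1 ^ (n + 1) = lvl x L (n + 1) by
    rw [lvl, lvl, Ideal.span_singleton_pow, ← map_pow, pow_one], Ideal.map_quotient_self]

include hx in
theorem mem_lift (h : Punct R y A) [Module.Finite R T] [Algebra.Etale R T]
    (g : T →ₐ[R] L ⧸ lvl x L 1) (hg : ∀ c, Mem x y A 1 (g c)) (n : ℕ)
    (φ : T →ₐ[R] L ⧸ lvl x L (n + 1)) (hφ : (red x (Nat.le_add_left 1 n)).comp φ = g) (c : T) :
    Mem x y A (n + 1) (φ c) := by
  intro i
  by_cases hi : x ∣ y i
  · refine ⟨n + 1, 0, ?_⟩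
    obtain ⟨s, hs⟩ := hi
    rw [map_zero, hs, mul_pow, mul_smul, Algebra.smul_def]
    rw [show algebraMap R (L ⧸ lvl x L (n + 1)) (x ^ (n + 1)) = 0 from
      Ideal.Quotient.eq_zero_iff_mem.mpr (Ideal.mem_span_singleton_self _), zero_mul]
  let S : ℕ → Prop := fun _ => True
  let Sy : ∀ m, Subalgebra R (L ⧸ lvl x L m) := fun m =>
    { carrier := {e | ∃ (K : ℕ) (t : A), y i ^ K • e = qmap x A L m t}
      mul_mem' := fun {e e'} he he' => by
        obtain ⟨K, t, ht⟩ := he
        obtain ⟨K', t', ht'⟩ := he'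
        exact ⟨K + K', t * t', by rw [map_mul, ← ht, ← ht', smul_mul_smul_comm, pow_add]⟩
      add_mem' := fun {e e'} he he' => by
        obtain ⟨K, t, ht⟩ := he
        obtain ⟨K', t', ht'⟩ := he'
        exact ⟨K + K', y i ^ K' • t + y i ^ K • t', by
          rw [map_add, map_smul, map_smul, ← ht, ← ht', ← mul_smul, ← mul_smul, ← pow_add, ← pow_add,
            add_comm K' K, smul_add]⟩
      algebraMap_mem' := fun r => ⟨0, algebraMap R A r, by rw [AlgHom.commutes, pow_zero, one_smul]⟩ }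
  let r : Sy (n + 1) →ₐ[R] Sy 1 := ((red x (Nat.le_add_left 1 n)).comp (Sy (n + 1)).val).codRestrict (Sy 1)
    fun e => by
      obtain ⟨K, t, ht⟩ := e.2
      refine ⟨K, t, ?_⟩
      show y i ^ K • red x (Nat.le_add_left 1 n) e.1 = _
      rw [← map_smul, ht, red_qmap]
  have hr : Function.Surjective r := fun e => by
    obtain ⟨K, t, ht⟩ := e.2
    obtain ⟨u, hu⟩ := isUnit_level (A := A) (L := L) hx (fun hd => hi (hx.dvd_of_dvd_pow hd)) (n + 1)
      (s := y i ^ K)
    refine ⟨⟨(↑u⁻¹ : L ⧸ lvl x L (n + 1)) * qmap x A L (n + 1) t, K, t, ?_⟩, Subtype.ext ?_⟩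
    · rw [Algebra.smul_def, ← hu, Units.mul_inv_cancel_left]
    · refine level_cancel (A := A) hx (s := y i ^ K) (fun hd => hi (hx.dvd_of_dvd_pow hd)) ?_
      show y i ^ K • red x (Nat.le_add_left 1 n) ((↑u⁻¹ : L ⧸ lvl x L (n + 1)) * qmap x A L (n + 1) t) = y i ^ K • e.1
      rw [ht, ← map_smul, Algebra.smul_def, ← hu, Units.mul_inv_cancel_left, red_qmap]
  have hnil : IsNilpotent (RingHom.ker (r : Sy (n + 1) →+* Sy 1)) := by
    obtain ⟨N, hN⟩ := isNilpotent_ker_red (L := L) (x := x) n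
    refine ⟨N, ?_⟩
    rw [Ideal.zero_eq_bot] at hN ⊢
    rw [eq_bot_iff]
    intro e he
    have hle : (RingHom.ker (r : Sy (n + 1) →+* Sy 1)).map ((Sy (n + 1)).val : Sy (n + 1) →+* L ⧸ lvl x L (n + 1)) ≤
        RingHom.ker ((red x (Nat.le_add_left 1 n) : (L ⧸ lvl x L (n + 1)) →ₐ[R] L ⧸ lvl x L 1) :
          (L ⧸ lvl x L (n + 1)) →+* L ⧸ lvl x L 1) := by
      rw [Ideal.map_le_iff_le_comap]
      intro z hz
      exact congrArg Subtype.val (show r z = 0 from hz)
    have h1 := Ideal.mem_map_of_mem ((Sy (n + 1)).val : Sy (n + 1) →+* L ⧸ lvl x L (n + 1)) he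
    rw [Ideal.map_pow] at h1
    have h2 := Ideal.pow_right_mono hle N h1
    rw [hN] at h2
    exact Subtype.ext h2
  let g' : T →ₐ[R] Sy 1 := g.codRestrict (Sy 1) fun c => hg c i
  let ψ := Algebra.FormallySmooth.liftOfSurjective g' r hr hnil
  have hψ : (Sy (n + 1)).val.comp ψ = φ := by
    refine Algebra.FormallyUnramified.lift_unique' (red x (Nat.le_add_left 1 n))
      (isNilpotent_ker_red n) _ _ (AlgHom.ext fun c => ?_)
    show red x (Nat.le_add_left 1 n) (ψ c).1 = red x (Nat.le_add_left 1 n) (φ c)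
    rw [show red x (Nat.le_add_left 1 n) (φ c) = g c from AlgHom.congr_fun hφ c]
    exact congrArg Subtype.val (Algebra.FormallySmooth.liftOfSurjective_apply g' r hr hnil c)
  obtain ⟨K, t, ht⟩ := (ψ c).2
  exact ⟨K, t, by rw [← hψ]; exact ht⟩

include hx in
/-- A finite étale lift of the sections over the punctured hyperplane maps to `A`. -/
theorem exists_hom [IsPrecomplete (Ideal.span {x}) R] (h : Punct R y A) (hgd : Good y x)
    [Module.Finite R T] [Algebra.Etale R T] (g : T →ₐ[R] L ⧸ lvl x L 1) (hg : ∀ c, Mem x y A 1 (g c)) :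
    ∃ φ : T →ₐ[R] A, ∀ c, qmap x A L 1 (φ c) = g c := by
  let lift : ∀ n, T →ₐ[R] L ⧸ lvl x L (n + 1) := fun n =>
    Algebra.FormallySmooth.liftOfSurjective g (red x (Nat.le_add_left 1 n)) (red_surjective _)
      (isNilpotent_ker_red n)
  have hlift : ∀ n, (red x (Nat.le_add_left 1 n)).comp (lift n) = g := fun n =>
    Algebra.FormallySmooth.comp_liftOfSurjective _ _ _ _
  have hcompat : ∀ n, (red x (Nat.le_succ (n + 1))).comp (lift (n + 1)) = lift n := fun n =>
    Algebra.FormallyUnramified.lift_unique' (red x (Nat.le_add_left 1 n)) (isNilpotent_ker_red n) _ _ (by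
      rw [hlift]
      refine AlgHom.ext fun c => ?_
      show red x (Nat.le_add_left 1 n) (red x (Nat.le_succ (n + 1)) (lift (n + 1) c)) = g c
      rw [red_red]
      exact AlgHom.congr_fun (hlift (n + 1)) c)
  let e : ∀ n, T →ₐ[R] L ⧸ lvl x L n := fun n => (red x (Nat.le_succ n)).comp (lift n)
  have hcompat' : ∀ n c, red x (Nat.le_succ n) (e (n + 1) c) = e n c := fun n c => by
    show red x (Nat.le_succ n) (red x (Nat.le_succ (n + 1)) (lift (n + 1) c)) = red x (Nat.le_succ n) (lift n c)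
    rw [← AlgHom.congr_fun (hcompat n) c]
    rfl
  have hmem : ∀ n c, Mem x y A n (e n c) := fun n c i => by
    obtain ⟨K, t, ht⟩ := mem_lift hx h g hg n (lift n) (hlift n) c i
    exact ⟨K, t, by show y i ^ K • red x (Nat.le_succ n) (lift n c) = _; rw [← map_smul, ht, red_qmap]⟩
  choose φ hφ using fun c => exists_limit hx h hgd (fun n => e n c) (fun n => hmem n c) (fun n => hcompat' n c)
  have huniq : ∀ (t : A) (c : T), (∀ n, qmap x A L n t = e n c) → φ c = t := fun t c ht =>
    eq_of_forall_qmap_eq (L := L) hx h fun n => by rw [hφ, ht]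
  let Φ : T →ₐ[R] A :=
    { toFun := φ
      map_one' := huniq _ _ fun n => by rw [map_one, map_one]
      map_mul' := fun a b => huniq _ _ fun n => by rw [map_mul, map_mul, hφ, hφ]
      map_zero' := huniq _ _ fun n => by rw [map_zero, map_zero]
      map_add' := fun a b => huniq _ _ fun n => by rw [map_add, map_add, hφ, hφ]
      commutes' := fun r => huniq _ _ fun n => by rw [AlgHom.commutes, AlgHom.commutes] }
  refine ⟨Φ, fun c => ?_⟩
  show qmap x A L 1 (φ c) = g c
  rw [hφ]
  show red x (Nat.le_succ 1) (lift 1 c) = g c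
  exact AlgHom.congr_fun (hlift 1) c

include hx in
/-- A map to `A` which lifts a finite étale cover of the sections modulo `x` is bijective. -/
theorem bijective_of_lift [IsLocalRing R] (hxm : x ∈ IsLocalRing.maximalIdeal R) (h : Punct R y A)
    [Module.Finite R T] (φ : T →ₐ[R] A)
    (hsurj : ∀ t : A, ∃ c, qmap x A L 1 (φ c) = qmap x A L 1 t)
    (hker : ∀ c, qmap x A L 1 (φ c) = 0 → c ∈ (Ideal.span {x}).map (algebraMap R T)) :
    Function.Bijective φ := by
  haveI := h.finite
  have hjac : Ideal.span {x} ≤ (⊥ : Ideal R).jacobson :=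
    ((Ideal.span_singleton_le_iff_mem _).mpr hxm).trans (IsLocalRing.maximalIdeal_le_jacobson _)
  constructor
  · rw [injective_iff_map_eq_zero]
    intro c hc
    let Kφ := LinearMap.ker φ.toLinearMap
    have hle : Kφ ≤ Ideal.span {x} • Kφ := by
      intro z hz
      have hz' : φ z = 0 := hz
      have h1 := hker z (by rw [hz', map_zero])
      rw [Ideal.map_span, Set.image_singleton, Ideal.mem_span_singleton] at h1
      obtain ⟨w, rfl⟩ := h1
      rw [← Algebra.smul_def] at hz' ⊢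
      rw [map_smul] at hz'
      exact Submodule.smul_mem_smul (Ideal.mem_span_singleton_self x)
        (show φ w = 0 from h.torsion hx.ne_zero hz')
    have hbot := Submodule.eq_bot_of_le_smul_of_le_jacobson_bot (Ideal.span {x}) Kφ
      (IsNoetherian.noetherian _) hle hjac
    exact (Submodule.eq_bot_iff _).mp hbot c hc
  · have hle : (⊤ : Submodule R A) ≤ LinearMap.range φ.toLinearMap ⊔ Ideal.span {x} • ⊤ := by
      intro t _
      obtain ⟨c, hc⟩ := hsurj t
      obtain ⟨u, hu⟩ := (qmap_eq_iff hx h).mp hc.symm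
      rw [← add_sub_cancel (φ c) t, hu, pow_one]
      exact Submodule.add_mem_sup ⟨c, rfl⟩ (Submodule.smul_mem_smul (Ideal.mem_span_singleton_self x) trivial)
    have := Submodule.le_of_le_smul_of_le_jacobson_bot (Module.finite_def.mp h.finite) hjac hle
    intro t
    exact this (trivial : t ∈ ⊤)

end GrothLib.Purity
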